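import Cfsg.Agent.Spor.U43a.D0

set_option autoImplicit false
set_option maxRecDepth 100000000
set_option Elab.async false

namespace Cfsg.Agent.Spor.U43a

theorem ok0 : Net.okb 12 n0 = true := by decide +kernel

theorem ok1 : Net.okb 12 n1 = true := by decide +kernel

theorem ok2 : Net.okb 12 n2 = true := by decide +kernel

theorem ok3 : Net.okb 12 n3 = true := by decide +kernel

theorem ok4 : Net.okb 12 n4 = true := by decide +kernel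

theorem ok5 : Net.okb 12 n5 = true := by decide +kernel

theorem rel0 : T.rel 12 [1, 1] 0 12 = true := by decide +kernel

theorem rel1 : T.rel 12 [2, 2] 0 12 = true := by decide +kernel

theorem rel2 : T.rel 12 [3, 3] 0 12 = true := by decide +kernel

theorem rel3 : T.rel 12 [4, 4] 0 12 = true := by decide +kernel

theorem rel4 : T.rel 12 [5, 5] 0 12 = true := by decide +kernel

theorem rel5 : T.rel 12 [6, 6] 0 12 = true := by decide +kernel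

theorem rel6 : T.rel 12 [2, 3, 4, 3, 2, 3, 4, 5, 3, 5] 0 12 = true := by decide +kernel

theorem rel7 : T.rel 12 [3, 4, 3, 4, 3, 4] 0 12 = true := by decide +kernel

theorem rel8 : T.rel 12 [2, 3, 4, 3, 2, 4, 5, 3, 5, 4] 0 12 = true := by decide +kernel

theorem rel9 : T.rel 12 [2, 3, 5, 3, 4, 2, 5, 2, 4, 5] 0 12 = true := by decide +kernel

theorem rel10 : T.rel 12 [2, 4, 5, 2, 4, 5, 4, 2, 5, 4] 0 12 = true := by decide +kernel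

theorem rel11 : T.rel 12 [2, 3, 2, 5, 2, 4, 3, 2, 5, 4, 5, 3, 4, 5] 0 12 = true := by decide +kernel

theorem rel12 : T.rel 12 [1, 3, 5, 3, 5] 0 12 = true := by decide +kernel

theorem rel13 : T.rel 12 [1, 2, 1, 2] 0 12 = true := by decide +kernel

theorem rel14 : T.rel 12 [1, 4, 1, 4] 0 12 = true := by decide +kernel

theorem rel15 : T.rel 12 [2, 5, 2, 5, 2, 5] 0 12 = true := by decide +kernel

theorem rel16 : T.rel 12 [1, 5, 1, 5] 0 12 = true := by decide +kernel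

theorem rel17 : T.rel 12 [1, 3, 1, 3] 0 12 = true := by decide +kernel

theorem rel18 : T.rel 12 [2, 6, 2, 6, 2, 6] 0 12 = true := by decide +kernel

theorem rel19 : T.rel 12 [5, 6, 5, 6, 5, 6] 0 12 = true := by decide +kernel

theorem rel20 : T.rel 12 [4, 6, 4, 6, 4, 6] 0 12 = true := by decide +kernel

theorem rel21 : T.rel 12 [3, 6, 3, 6, 3, 6] 0 12 = true := by decide +kernel

theorem rel22 : T.rel 12 [3, 5, 6, 1, 6, 1, 6, 3, 5] 0 12 = true := by decide +kernel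

theorem rel23 : T.rel 12 [2, 3, 2, 3, 2, 3, 2, 3] 0 12 = true := by decide +kernel

theorem rel24 : T.rel 12 [5, 2, 6, 4, 2, 6, 1, 6, 4, 2, 6, 4, 5, 1] 0 12 = true := by decide +kernel

theorem rel25 : T.rel 12 [6, 1, 3, 4, 6, 3, 4, 1, 6, 2, 4, 5, 2, 3, 2] 0 12 = true := by decide +kernel

theorem rel26 : T.rel 12 [6, 1, 2, 5, 6, 2, 5, 1, 6, 4, 3, 5, 2, 4, 3] 0 12 = true := by decide +kernel

theorem hcov : T.treeCov (ones 2835) L 1 = true := by decide +kernel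

theorem hg : lall (fun z => band (memL L z) (band (sub (ones 2835) (T.let z).cl) (T.closed (ones 2835) z))) gs = true := by decide +kernel

theorem rot1_1 : T.rot 1 [1] (sel (ones 2835) ip1 1) = true := by decide +kernel

theorem rot1_1r : band (Rule.ok (2 * 6) EX RL ⟨1 :: [1], [], 21, false⟩) (lall (memL L) [1]) = true := by decide +kernel

theorem rot1_2 : T.rot 1 [2, 1, 2] (sel (ones 2835) ip1 2) = true := by decide +kernel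

theorem rot1_2r : band (Rule.ok (2 * 6) EX RL ⟨1 :: [2, 1, 2], [], 7, true⟩) (lall (memL L) [2, 1, 2]) = true := by decide +kernel

theorem rot1_3 : T.rot 1 [4, 1, 4] (sel (ones 2835) ip1 3) = true := by decide +kernel

theorem rot1_3r : band (Rule.ok (2 * 6) EX RL ⟨1 :: [4, 1, 4], [], 8, true⟩) (lall (memL L) [4, 1, 4]) = true := by decide +kernel

theorem rot1_4 : T.rot 1 [5, 1, 5] (sel (ones 2835) ip1 4) = true := by decide +kernel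

theorem rot1_4r : band (Rule.ok (2 * 6) EX RL ⟨1 :: [5, 1, 5], [], 10, true⟩) (lall (memL L) [5, 1, 5]) = true := by decide +kernel

theorem rot1_5 : T.rot 1 [3, 1, 3] (sel (ones 2835) ip1 5) = true := by decide +kernel

theorem rot1_5r : band (Rule.ok (2 * 6) EX RL ⟨1 :: [3, 1, 3], [], 11, true⟩) (lall (memL L) [3, 1, 3]) = true := by decide +kernel

theorem rot1_6 : T.rot 1 [3, 5, 3, 5] (sel (ones 2835) ip1 6) = true := by decide +kernel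

theorem rot1_6r : band (Rule.ok (2 * 6) EX RL ⟨1 :: [3, 5, 3, 5], [], 6, true⟩) (lall (memL L) [3, 5, 3, 5]) = true := by decide +kernel

theorem rot1_7 : T.rot 1 [5, 3, 5, 3] (sel (ones 2835) ip1 7) = true := by decide +kernel

theorem rot1_7r : band (Rule.ok (2 * 6) EX RL ⟨1 :: [5, 3, 5, 3], [0], 6, false⟩) (lall (memL L) [5, 3, 5, 3]) = true := by decide +kernel

theorem rot1_8 : T.rot 1 [6, 1, 6, 3, 5, 3, 5, 6] (sel (ones 2835) ip1 8) = true := by decide +kernel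

theorem rot1_8r : band (Rule.ok (2 * 6) EX RL ⟨1 :: [6, 1, 6, 3, 5, 3, 5, 6], [4, 8, 10], 16, true⟩) (lall (memL L) [6, 1, 6, 3, 5, 3, 5, 6]) = true := by decide +kernel

theorem rot1_9 : T.rot 1 [6, 3, 5, 3, 5, 6, 1, 6] (sel (ones 2835) ip1 9) = true := by decide +kernel

theorem rot1_9r : band (Rule.ok (2 * 6) EX RL ⟨1 :: [6, 3, 5, 3, 5, 6, 1, 6], [8, 4, 10, 0], 16, true⟩) (lall (memL L) [6, 3, 5, 3, 5, 6, 1, 6]) = true := by decide +kernel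

theorem rot1_10 : T.rot 1 [6, 1, 6, 5, 3, 5, 3, 6] (sel (ones 2835) ip1 10) = true := by decide +kernel

theorem rot1_10r : band (Rule.ok (2 * 6) EX RL ⟨1 :: [6, 1, 6, 5, 3, 5, 3, 6], [8, 4, 10], 16, false⟩) (lall (memL L) [6, 1, 6, 5, 3, 5, 3, 6]) = true := by decide +kernel

theorem rot1_11 : T.rot 1 [6, 5, 3, 5, 3, 6, 1, 6] (sel (ones 2835) ip1 11) = true := by decide +kernel

theorem rot1_11r : band (Rule.ok (2 * 6) EX RL ⟨1 :: [6, 5, 3, 5, 3, 6, 1, 6], [4, 8, 10, 0], 16, false⟩) (lall (memL L) [6, 5, 3, 5, 3, 6, 1, 6]) = true := by decide +kernel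

theorem rot1_12 : T.rot 1 [6, 4, 2, 6, 4, 5, 1, 5, 2, 6, 4, 2, 6] (sel (ones 2835) ip1 12) = true := by decide +kernel

theorem rot1_12r : band (Rule.ok (2 * 6) EX RL ⟨1 :: [6, 4, 2, 6, 4, 5, 1, 5, 2, 6, 4, 2, 6], [8, 2, 10, 6, 2, 10], 18, true⟩) (lall (memL L) [6, 4, 2, 6, 4, 5, 1, 5, 2, 6, 4, 2, 6]) = true := by decide +kernel

theorem rot1_13 : T.rot 1 [5, 2, 6, 4, 2, 6, 1, 6, 4, 2, 6, 4, 5] (sel (ones 2835) ip1 13) = true := by decide +kernel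

theorem rot1_13r : band (Rule.ok (2 * 6) EX RL ⟨1 :: [5, 2, 6, 4, 2, 6, 1, 6, 4, 2, 6, 4, 5], [0], 18, true⟩) (lall (memL L) [5, 2, 6, 4, 2, 6, 1, 6, 4, 2, 6, 4, 5]) = true := by decide +kernel

theorem rot1_14 : T.rot 1 [5, 4, 6, 2, 4, 6, 1, 6, 2, 4, 6, 2, 5] (sel (ones 2835) ip1 14) = true := by decide +kernel

theorem rot1_14r : band (Rule.ok (2 * 6) EX RL ⟨1 :: [5, 4, 6, 2, 4, 6, 1, 6, 2, 4, 6, 2, 5], [], 18, false⟩) (lall (memL L) [5, 4, 6, 2, 4, 6, 1, 6, 2, 4, 6, 2, 5]) = true := by decide +kernel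

theorem rot1_15 : T.rot 1 [6, 2, 4, 6, 2, 5, 1, 5, 4, 6, 2, 4, 6] (sel (ones 2835) ip1 15) = true := by decide +kernel

theorem rot1_15r : band (Rule.ok (2 * 6) EX RL ⟨1 :: [6, 2, 4, 6, 2, 5, 1, 5, 4, 6, 2, 4, 6], [8, 2, 10, 6, 2, 10, 0], 18, false⟩) (lall (memL L) [6, 2, 4, 6, 2, 5, 1, 5, 4, 6, 2, 4, 6]) = true := by decide +kernel

theorem rot1_16 : T.rot 1 [3, 4, 6, 3, 4, 1, 6, 2, 4, 5, 2, 3, 2, 6] (sel (ones 2835) ip1 16) = true := by decide +kernel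

theorem rot1_16r : band (Rule.ok (2 * 6) EX RL ⟨1 :: [3, 4, 6, 3, 4, 1, 6, 2, 4, 5, 2, 3, 2, 6], [10], 19, true⟩) (lall (memL L) [3, 4, 6, 3, 4, 1, 6, 2, 4, 5, 2, 3, 2, 6]) = true := by decide +kernel

theorem rot1_17 : T.rot 1 [6, 2, 4, 5, 2, 3, 2, 6, 1, 3, 4, 6, 3, 4] (sel (ones 2835) ip1 17) = true := by decide +kernel

theorem rot1_17r : band (Rule.ok (2 * 6) EX RL ⟨1 :: [6, 2, 4, 5, 2, 3, 2, 6, 1, 3, 4, 6, 3, 4], [10, 0, 4, 6, 10, 4, 6], 19, true⟩) (lall (memL L) [6, 2, 4, 5, 2, 3, 2, 6, 1, 3, 4, 6, 3, 4]) = true := by decide +kernel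

theorem rot1_18 : T.rot 1 [4, 3, 6, 4, 3, 1, 6, 2, 3, 2, 5, 4, 2, 6] (sel (ones 2835) ip1 18) = true := by decide +kernel

theorem rot1_18r : band (Rule.ok (2 * 6) EX RL ⟨1 :: [4, 3, 6, 4, 3, 1, 6, 2, 3, 2, 5, 4, 2, 6], [2, 4, 2, 8, 6, 2, 10], 19, false⟩) (lall (memL L) [4, 3, 6, 4, 3, 1, 6, 2, 3, 2, 5, 4, 2, 6]) = true := by decide +kernel

theorem rot1_19 : T.rot 1 [6, 2, 3, 2, 5, 4, 2, 6, 1, 4, 3, 6, 4, 3] (sel (ones 2835) ip1 19) = true := by decide +kernel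

theorem rot1_19r : band (Rule.ok (2 * 6) EX RL ⟨1 :: [6, 2, 3, 2, 5, 4, 2, 6, 1, 4, 3, 6, 4, 3], [10, 0], 19, false⟩) (lall (memL L) [6, 2, 3, 2, 5, 4, 2, 6, 1, 4, 3, 6, 4, 3]) = true := by decide +kernel

theorem rot1_20 : T.rot 1 [2, 5, 6, 2, 5, 1, 6, 4, 3, 5, 2, 4, 3, 6] (sel (ones 2835) ip1 20) = true := by decide +kernel

theorem rot1_20r : band (Rule.ok (2 * 6) EX RL ⟨1 :: [2, 5, 6, 2, 5, 1, 6, 4, 3, 5, 2, 4, 3, 6], [10], 20, true⟩) (lall (memL L) [2, 5, 6, 2, 5, 1, 6, 4, 3, 5, 2, 4, 3, 6]) = true := by decide +kernel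

theorem rot1_21 : T.rot 1 [6, 4, 3, 5, 2, 4, 3, 6, 1, 2, 5, 6, 2, 5] (sel (ones 2835) ip1 21) = true := by decide +kernel

theorem rot1_21r : band (Rule.ok (2 * 6) EX RL ⟨1 :: [6, 4, 3, 5, 2, 4, 3, 6, 1, 2, 5, 6, 2, 5], [10, 0, 2, 8, 10, 2, 8], 20, true⟩) (lall (memL L) [6, 4, 3, 5, 2, 4, 3, 6, 1, 2, 5, 6, 2, 5]) = true := by decide +kernel

theorem rot1_22 : T.rot 1 [5, 2, 6, 5, 2, 1, 6, 3, 4, 2, 5, 3, 4, 6] (sel (ones 2835) ip1 22) = true := by decide +kernel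

theorem rot1_22r : band (Rule.ok (2 * 6) EX RL ⟨1 :: [5, 2, 6, 5, 2, 1, 6, 3, 4, 2, 5, 3, 4, 6], [4, 6, 2, 8, 4, 6, 10], 20, false⟩) (lall (memL L) [5, 2, 6, 5, 2, 1, 6, 3, 4, 2, 5, 3, 4, 6]) = true := by decide +kernel

theorem rot1_23 : T.rot 1 [6, 3, 4, 2, 5, 3, 4, 6, 1, 5, 2, 6, 5, 2] (sel (ones 2835) ip1 23) = true := by decide +kernel

theorem rot1_23r : band (Rule.ok (2 * 6) EX RL ⟨1 :: [6, 3, 4, 2, 5, 3, 4, 6, 1, 5, 2, 6, 5, 2], [10, 0], 20, false⟩) (lall (memL L) [6, 3, 4, 2, 5, 3, 4, 6, 1, 5, 2, 6, 5, 2]) = true := by decide +kernel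

theorem cov1 : T.cover 1 [(sel (ones 2835) ip1 1), (sel (ones 2835) ip1 2), (sel (ones 2835) ip1 3), (sel (ones 2835) ip1 4), (sel (ones 2835) ip1 5), (sel (ones 2835) ip1 6), (sel (ones 2835) ip1 7), (sel (ones 2835) ip1 8), (sel (ones 2835) ip1 9), (sel (ones 2835) ip1 10), (sel (ones 2835) ip1 11), (sel (ones 2835) ip1 12), (sel (ones 2835) ip1 13), (sel (ones 2835) ip1 14), (sel (ones 2835) ip1 15), (sel (ones 2835) ip1 16), (sel (ones 2835) ip1 17), (sel (ones 2835) ip1 18), (sel (ones 2835) ip1 19), (sel (ones 2835) ip1 20), (sel (ones 2835) ip1 21), (sel (ones 2835) ip1 22), (sel (ones 2835) ip1 23)] = true := by decide +kernel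

theorem tl1 : T.treeLt 12 1 = true := by decide +kernel

theorem rot2_1 : T.rot 2 [2] (sel (ones 2835) ip2 1) = true := by decide +kernel

theorem rot2_1r : band (Rule.ok (2 * 6) EX RL ⟨2 :: [2], [], 21, false⟩) (lall (memL L) [2]) = true := by decide +kernel

theorem rot2_2 : T.rot 2 [1, 2, 1] (sel (ones 2835) ip2 2) = true := by decide +kernel

theorem rot2_2r : band (Rule.ok (2 * 6) EX RL ⟨2 :: [1, 2, 1], [], 7, false⟩) (lall (memL L) [1, 2, 1]) = true := by decide +kernel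

theorem rot2_3 : T.rot 2 [5, 2, 5, 2, 5] (sel (ones 2835) ip2 3) = true := by decide +kernel

theorem rot2_3r : band (Rule.ok (2 * 6) EX RL ⟨2 :: [5, 2, 5, 2, 5], [], 9, true⟩) (lall (memL L) [5, 2, 5, 2, 5]) = true := by decide +kernel

theorem rot2_4 : T.rot 2 [6, 2, 6, 2, 6] (sel (ones 2835) ip2 4) = true := by decide +kernel

theorem rot2_4r : band (Rule.ok (2 * 6) EX RL ⟨2 :: [6, 2, 6, 2, 6], [], 12, true⟩) (lall (memL L) [6, 2, 6, 2, 6]) = true := by decide +kernel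

theorem rot2_5 : T.rot 2 [3, 2, 3, 2, 3, 2, 3] (sel (ones 2835) ip2 5) = true := by decide +kernel

theorem rot2_5r : band (Rule.ok (2 * 6) EX RL ⟨2 :: [3, 2, 3, 2, 3, 2, 3], [], 17, true⟩) (lall (memL L) [3, 2, 3, 2, 3, 2, 3]) = true := by decide +kernel

theorem rot2_6 : T.rot 2 [3, 4, 3, 2, 3, 4, 5, 3, 5] (sel (ones 2835) ip2 6) = true := by decide +kernel

theorem rot2_6r : band (Rule.ok (2 * 6) EX RL ⟨2 :: [3, 4, 3, 2, 3, 4, 5, 3, 5], [], 0, true⟩) (lall (memL L) [3, 4, 3, 2, 3, 4, 5, 3, 5]) = true := by decide +kernel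

theorem rot2_7 : T.rot 2 [3, 4, 5, 3, 5, 2, 3, 4, 3] (sel (ones 2835) ip2 7) = true := by decide +kernel

theorem rot2_7r : band (Rule.ok (2 * 6) EX RL ⟨2 :: [3, 4, 5, 3, 5, 2, 3, 4, 3], [2, 4, 6, 4], 0, true⟩) (lall (memL L) [3, 4, 5, 3, 5, 2, 3, 4, 3]) = true := by decide +kernel

theorem rot2_8 : T.rot 2 [3, 4, 3, 2, 5, 3, 5, 4, 3] (sel (ones 2835) ip2 8) = true := by decide +kernel

theorem rot2_8r : band (Rule.ok (2 * 6) EX RL ⟨2 :: [3, 4, 3, 2, 5, 3, 5, 4, 3], [2, 4, 6, 4, 2], 0, false⟩) (lall (memL L) [3, 4, 3, 2, 5, 3, 5, 4, 3]) = true := by decide +kernel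

theorem rot2_9 : T.rot 2 [5, 3, 5, 4, 3, 2, 3, 4, 3] (sel (ones 2835) ip2 9) = true := by decide +kernel

theorem rot2_9r : band (Rule.ok (2 * 6) EX RL ⟨2 :: [5, 3, 5, 4, 3, 2, 3, 4, 3], [2], 0, false⟩) (lall (memL L) [5, 3, 5, 4, 3, 2, 3, 4, 3]) = true := by decide +kernel

theorem rot2_10 : T.rot 2 [3, 4, 3, 2, 4, 5, 3, 5, 4] (sel (ones 2835) ip2 10) = true := by decide +kernel

theorem rot2_10r : band (Rule.ok (2 * 6) EX RL ⟨2 :: [3, 4, 3, 2, 4, 5, 3, 5, 4], [], 2, true⟩) (lall (memL L) [3, 4, 3, 2, 4, 5, 3, 5, 4]) = true := by decide +kernel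

theorem rot2_11 : T.rot 2 [4, 5, 3, 5, 4, 2, 3, 4, 3] (sel (ones 2835) ip2 11) = true := by decide +kernel

theorem rot2_11r : band (Rule.ok (2 * 6) EX RL ⟨2 :: [4, 5, 3, 5, 4, 2, 3, 4, 3], [2], 2, false⟩) (lall (memL L) [4, 5, 3, 5, 4, 2, 3, 4, 3]) = true := by decide +kernel

theorem rot2_12 : T.rot 2 [3, 5, 3, 4, 2, 5, 2, 4, 5] (sel (ones 2835) ip2 12) = true := by decide +kernel

theorem rot2_12r : band (Rule.ok (2 * 6) EX RL ⟨2 :: [3, 5, 3, 4, 2, 5, 2, 4, 5], [], 3, true⟩) (lall (memL L) [3, 5, 3, 4, 2, 5, 2, 4, 5]) = true := by decide +kernel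

theorem rot2_13 : T.rot 2 [5, 2, 4, 5, 2, 3, 5, 3, 4] (sel (ones 2835) ip2 13) = true := by decide +kernel

theorem rot2_13r : band (Rule.ok (2 * 6) EX RL ⟨2 :: [5, 2, 4, 5, 2, 3, 5, 3, 4], [8, 6, 2, 8, 2], 3, true⟩) (lall (memL L) [5, 2, 4, 5, 2, 3, 5, 3, 4]) = true := by decide +kernel

theorem rot2_14 : T.rot 2 [4, 5, 2, 3, 5, 3, 4, 2, 5] (sel (ones 2835) ip2 14) = true := by decide +kernel

theorem rot2_14r : band (Rule.ok (2 * 6) EX RL ⟨2 :: [4, 5, 2, 3, 5, 3, 4, 2, 5], [8, 6, 2], 3, true⟩) (lall (memL L) [4, 5, 2, 3, 5, 3, 4, 2, 5]) = true := by decide +kernel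

theorem rot2_15 : T.rot 2 [5, 2, 4, 3, 5, 3, 2, 5, 4] (sel (ones 2835) ip2 15) = true := by decide +kernel

theorem rot2_15r : band (Rule.ok (2 * 6) EX RL ⟨2 :: [5, 2, 4, 3, 5, 3, 2, 5, 4], [8, 6], 3, false⟩) (lall (memL L) [5, 2, 4, 3, 5, 3, 2, 5, 4]) = true := by decide +kernel

theorem rot2_16 : T.rot 2 [4, 3, 5, 3, 2, 5, 4, 2, 5] (sel (ones 2835) ip2 16) = true := by decide +kernel

theorem rot2_16r : band (Rule.ok (2 * 6) EX RL ⟨2 :: [4, 3, 5, 3, 2, 5, 4, 2, 5], [8, 6, 2, 8], 3, false⟩) (lall (memL L) [4, 3, 5, 3, 2, 5, 4, 2, 5]) = true := by decide +kernel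

theorem rot2_17 : T.rot 2 [5, 4, 2, 5, 2, 4, 3, 5, 3] (sel (ones 2835) ip2 17) = true := by decide +kernel

theorem rot2_17r : band (Rule.ok (2 * 6) EX RL ⟨2 :: [5, 4, 2, 5, 2, 4, 3, 5, 3], [2], 3, false⟩) (lall (memL L) [5, 4, 2, 5, 2, 4, 3, 5, 3]) = true := by decide +kernel

theorem rot2_18 : T.rot 2 [4, 5, 2, 4, 5, 4, 2, 5, 4] (sel (ones 2835) ip2 18) = true := by decide +kernel

theorem rot2_18r : band (Rule.ok (2 * 6) EX RL ⟨2 :: [4, 5, 2, 4, 5, 4, 2, 5, 4], [], 4, true⟩) (lall (memL L) [4, 5, 2, 4, 5, 4, 2, 5, 4]) = true := by decide +kernel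

theorem rot2_19 : T.rot 2 [4, 5, 4, 2, 5, 4, 2, 4, 5] (sel (ones 2835) ip2 19) = true := by decide +kernel

theorem rot2_19r : band (Rule.ok (2 * 6) EX RL ⟨2 :: [4, 5, 4, 2, 5, 4, 2, 4, 5], [6, 8], 4, false⟩) (lall (memL L) [4, 5, 4, 2, 5, 4, 2, 4, 5]) = true := by decide +kernel

theorem rot2_20 : T.rot 2 [5, 4, 2, 4, 5, 2, 4, 5, 4] (sel (ones 2835) ip2 20) = true := by decide +kernel

theorem rot2_20r : band (Rule.ok (2 * 6) EX RL ⟨2 :: [5, 4, 2, 4, 5, 2, 4, 5, 4], [6, 8, 2], 4, true⟩) (lall (memL L) [5, 4, 2, 4, 5, 2, 4, 5, 4]) = true := by decide +kernel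

theorem rot2_21 : T.rot 2 [3, 2, 5, 2, 4, 3, 2, 5, 4, 5, 3, 4, 5] (sel (ones 2835) ip2 21) = true := by decide +kernel

theorem rot2_21r : band (Rule.ok (2 * 6) EX RL ⟨2 :: [3, 2, 5, 2, 4, 3, 2, 5, 4, 5, 3, 4, 5], [], 5, true⟩) (lall (memL L) [3, 2, 5, 2, 4, 3, 2, 5, 4, 5, 3, 4, 5]) = true := by decide +kernel

theorem rot2_22 : T.rot 2 [5, 2, 4, 3, 2, 5, 4, 5, 3, 4, 5, 2, 3] (sel (ones 2835) ip2 22) = true := by decide +kernel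

theorem rot2_22r : band (Rule.ok (2 * 6) EX RL ⟨2 :: [5, 2, 4, 3, 2, 5, 4, 5, 3, 4, 5, 2, 3], [2, 4], 5, true⟩) (lall (memL L) [5, 2, 4, 3, 2, 5, 4, 5, 3, 4, 5, 2, 3]) = true := by decide +kernel

theorem rot2_23 : T.rot 2 [4, 3, 2, 5, 4, 5, 3, 4, 5, 2, 3, 2, 5] (sel (ones 2835) ip2 23) = true := by decide +kernel

theorem rot2_23r : band (Rule.ok (2 * 6) EX RL ⟨2 :: [4, 3, 2, 5, 4, 5, 3, 4, 5, 2, 3, 2, 5], [2, 4, 2, 8], 5, true⟩) (lall (memL L) [4, 3, 2, 5, 4, 5, 3, 4, 5, 2, 3, 2, 5]) = true := by decide +kernel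

theorem rot2_24 : T.rot 2 [5, 4, 5, 3, 4, 5, 2, 3, 2, 5, 2, 4, 3] (sel (ones 2835) ip2 24) = true := by decide +kernel

theorem rot2_24r : band (Rule.ok (2 * 6) EX RL ⟨2 :: [5, 4, 5, 3, 4, 5, 2, 3, 2, 5, 2, 4, 3], [8, 6, 4, 8, 6, 8, 2], 5, true⟩) (lall (memL L) [5, 4, 5, 3, 4, 5, 2, 3, 2, 5, 2, 4, 3]) = true := by decide +kernel

theorem rot2_25 : T.rot 2 [3, 4, 2, 5, 2, 3, 2, 5, 4, 3, 5, 4, 5] (sel (ones 2835) ip2 25) = true := by decide +kernel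

theorem rot2_25r : band (Rule.ok (2 * 6) EX RL ⟨2 :: [3, 4, 2, 5, 2, 3, 2, 5, 4, 3, 5, 4, 5], [8, 6, 4, 8, 6, 8], 5, false⟩) (lall (memL L) [3, 4, 2, 5, 2, 3, 2, 5, 4, 3, 5, 4, 5]) = true := by decide +kernel

theorem rot2_26 : T.rot 2 [5, 2, 3, 2, 5, 4, 3, 5, 4, 5, 2, 3, 4] (sel (ones 2835) ip2 26) = true := by decide +kernel

theorem rot2_26r : band (Rule.ok (2 * 6) EX RL ⟨2 :: [5, 2, 3, 2, 5, 4, 3, 5, 4, 5, 2, 3, 4], [2, 4, 2, 8, 2], 5, false⟩) (lall (memL L) [5, 2, 3, 2, 5, 4, 3, 5, 4, 5, 2, 3, 4]) = true := by decide +kernel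

theorem rot2_27 : T.rot 2 [3, 2, 5, 4, 3, 5, 4, 5, 2, 3, 4, 2, 5] (sel (ones 2835) ip2 27) = true := by decide +kernel

theorem rot2_27r : band (Rule.ok (2 * 6) EX RL ⟨2 :: [3, 2, 5, 4, 3, 5, 4, 5, 2, 3, 4, 2, 5], [2, 4, 2], 5, false⟩) (lall (memL L) [3, 2, 5, 4, 3, 5, 4, 5, 2, 3, 4, 2, 5]) = true := by decide +kernel

theorem rot2_28 : T.rot 2 [5, 4, 3, 5, 4, 5, 2, 3, 4, 2, 5, 2, 3] (sel (ones 2835) ip2 28) = true := by decide +kernel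

theorem rot2_28r : band (Rule.ok (2 * 6) EX RL ⟨2 :: [5, 4, 3, 5, 4, 5, 2, 3, 4, 2, 5, 2, 3], [2], 5, false⟩) (lall (memL L) [5, 4, 3, 5, 4, 5, 2, 3, 4, 2, 5, 2, 3]) = true := by decide +kernel

theorem rot2_29 : T.rot 2 [6, 4, 2, 6, 1, 6, 4, 2, 6, 4, 5, 1, 5] (sel (ones 2835) ip2 29) = true := by decide +kernel

theorem rot2_29r : band (Rule.ok (2 * 6) EX RL ⟨2 :: [6, 4, 2, 6, 1, 6, 4, 2, 6, 4, 5, 1, 5], [8], 18, true⟩) (lall (memL L) [6, 4, 2, 6, 1, 6, 4, 2, 6, 4, 5, 1, 5]) = true := by decide +kernel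

theorem rot2_30 : T.rot 2 [6, 1, 6, 4, 2, 6, 4, 5, 1, 5, 2, 6, 4] (sel (ones 2835) ip2 30) = true := by decide +kernel

theorem rot2_30r : band (Rule.ok (2 * 6) EX RL ⟨2 :: [6, 1, 6, 4, 2, 6, 4, 5, 1, 5, 2, 6, 4], [8, 2, 10, 6], 18, true⟩) (lall (memL L) [6, 1, 6, 4, 2, 6, 4, 5, 1, 5, 2, 6, 4]) = true := by decide +kernel

theorem rot2_31 : T.rot 2 [6, 4, 5, 1, 5, 2, 6, 4, 2, 6, 1, 6, 4] (sel (ones 2835) ip2 31) = true := by decide +kernel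

theorem rot2_31r : band (Rule.ok (2 * 6) EX RL ⟨2 :: [6, 4, 5, 1, 5, 2, 6, 4, 2, 6, 1, 6, 4], [0, 8, 6, 10, 2], 18, true⟩) (lall (memL L) [6, 4, 5, 1, 5, 2, 6, 4, 2, 6, 1, 6, 4]) = true := by decide +kernel

theorem rot2_32 : T.rot 2 [4, 6, 1, 6, 2, 4, 6, 2, 5, 1, 5, 4, 6] (sel (ones 2835) ip2 32) = true := by decide +kernel

theorem rot2_32r : band (Rule.ok (2 * 6) EX RL ⟨2 :: [4, 6, 1, 6, 2, 4, 6, 2, 5, 1, 5, 4, 6], [0, 8, 6, 10], 18, false⟩) (lall (memL L) [4, 6, 1, 6, 2, 4, 6, 2, 5, 1, 5, 4, 6]) = true := by decide +kernel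

theorem rot2_33 : T.rot 2 [4, 6, 2, 5, 1, 5, 4, 6, 2, 4, 6, 1, 6] (sel (ones 2835) ip2 33) = true := by decide +kernel

theorem rot2_33r : band (Rule.ok (2 * 6) EX RL ⟨2 :: [4, 6, 2, 5, 1, 5, 4, 6, 2, 4, 6, 1, 6], [8, 2, 10, 6, 2], 18, false⟩) (lall (memL L) [4, 6, 2, 5, 1, 5, 4, 6, 2, 4, 6, 1, 6]) = true := by decide +kernel

theorem rot2_34 : T.rot 2 [5, 1, 5, 4, 6, 2, 4, 6, 1, 6, 2, 4, 6] (sel (ones 2835) ip2 34) = true := by decide +kernel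

theorem rot2_34r : band (Rule.ok (2 * 6) EX RL ⟨2 :: [5, 1, 5, 4, 6, 2, 4, 6, 1, 6, 2, 4, 6], [8, 2], 18, false⟩) (lall (memL L) [5, 1, 5, 4, 6, 2, 4, 6, 1, 6, 2, 4, 6]) = true := by decide +kernel

theorem rot2_35 : T.rot 2 [4, 5, 2, 3, 2, 6, 1, 3, 4, 6, 3, 4, 1, 6] (sel (ones 2835) ip2 35) = true := by decide +kernel

theorem rot2_35r : band (Rule.ok (2 * 6) EX RL ⟨2 :: [4, 5, 2, 3, 2, 6, 1, 3, 4, 6, 3, 4, 1, 6], [2, 4, 2, 8, 6, 2], 19, true⟩) (lall (memL L) [4, 5, 2, 3, 2, 6, 1, 3, 4, 6, 3, 4, 1, 6]) = true := by decide +kernel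

theorem rot2_36 : T.rot 2 [3, 2, 6, 1, 3, 4, 6, 3, 4, 1, 6, 2, 4, 5] (sel (ones 2835) ip2 36) = true := by decide +kernel

theorem rot2_36r : band (Rule.ok (2 * 6) EX RL ⟨2 :: [3, 2, 6, 1, 3, 4, 6, 3, 4, 1, 6, 2, 4, 5], [2, 4, 2], 19, true⟩) (lall (memL L) [3, 2, 6, 1, 3, 4, 6, 3, 4, 1, 6, 2, 4, 5]) = true := by decide +kernel

theorem rot2_37 : T.rot 2 [6, 1, 3, 4, 6, 3, 4, 1, 6, 2, 4, 5, 2, 3] (sel (ones 2835) ip2 37) = true := by decide +kernel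

theorem rot2_37r : band (Rule.ok (2 * 6) EX RL ⟨2 :: [6, 1, 3, 4, 6, 3, 4, 1, 6, 2, 4, 5, 2, 3], [2], 19, true⟩) (lall (memL L) [6, 1, 3, 4, 6, 3, 4, 1, 6, 2, 4, 5, 2, 3]) = true := by decide +kernel

theorem rot2_38 : T.rot 2 [3, 2, 5, 4, 2, 6, 1, 4, 3, 6, 4, 3, 1, 6] (sel (ones 2835) ip2 38) = true := by decide +kernel

theorem rot2_38r : band (Rule.ok (2 * 6) EX RL ⟨2 :: [3, 2, 5, 4, 2, 6, 1, 4, 3, 6, 4, 3, 1, 6], [], 19, false⟩) (lall (memL L) [3, 2, 5, 4, 2, 6, 1, 4, 3, 6, 4, 3, 1, 6]) = true := by decide +kernel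

theorem rot2_39 : T.rot 2 [5, 4, 2, 6, 1, 4, 3, 6, 4, 3, 1, 6, 2, 3] (sel (ones 2835) ip2 39) = true := by decide +kernel

theorem rot2_39r : band (Rule.ok (2 * 6) EX RL ⟨2 :: [5, 4, 2, 6, 1, 4, 3, 6, 4, 3, 1, 6, 2, 3], [2, 4], 19, false⟩) (lall (memL L) [5, 4, 2, 6, 1, 4, 3, 6, 4, 3, 1, 6, 2, 3]) = true := by decide +kernel

theorem rot2_40 : T.rot 2 [6, 1, 4, 3, 6, 4, 3, 1, 6, 2, 3, 2, 5, 4] (sel (ones 2835) ip2 40) = true := by decide +kernel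

theorem rot2_40r : band (Rule.ok (2 * 6) EX RL ⟨2 :: [6, 1, 4, 3, 6, 4, 3, 1, 6, 2, 3, 2, 5, 4], [2, 4, 2, 8, 6], 19, false⟩) (lall (memL L) [6, 1, 4, 3, 6, 4, 3, 1, 6, 2, 3, 2, 5, 4]) = true := by decide +kernel

theorem rot2_41 : T.rot 2 [5, 6, 2, 5, 1, 6, 4, 3, 5, 2, 4, 3, 6, 1] (sel (ones 2835) ip2 41) = true := by decide +kernel

theorem rot2_41r : band (Rule.ok (2 * 6) EX RL ⟨2 :: [5, 6, 2, 5, 1, 6, 4, 3, 5, 2, 4, 3, 6, 1], [10, 0], 20, true⟩) (lall (memL L) [5, 6, 2, 5, 1, 6, 4, 3, 5, 2, 4, 3, 6, 1]) = true := by decide +kernel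

theorem rot2_42 : T.rot 2 [5, 1, 6, 4, 3, 5, 2, 4, 3, 6, 1, 2, 5, 6] (sel (ones 2835) ip2 42) = true := by decide +kernel

theorem rot2_42r : band (Rule.ok (2 * 6) EX RL ⟨2 :: [5, 1, 6, 4, 3, 5, 2, 4, 3, 6, 1, 2, 5, 6], [10, 0, 2, 8, 10], 20, true⟩) (lall (memL L) [5, 1, 6, 4, 3, 5, 2, 4, 3, 6, 1, 2, 5, 6]) = true := by decide +kernel

theorem rot2_43 : T.rot 2 [4, 3, 6, 1, 2, 5, 6, 2, 5, 1, 6, 4, 3, 5] (sel (ones 2835) ip2 43) = true := by decide +kernel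

theorem rot2_43r : band (Rule.ok (2 * 6) EX RL ⟨2 :: [4, 3, 6, 1, 2, 5, 6, 2, 5, 1, 6, 4, 3, 5], [4, 6, 2], 20, true⟩) (lall (memL L) [4, 3, 6, 1, 2, 5, 6, 2, 5, 1, 6, 4, 3, 5]) = true := by decide +kernel

theorem rot2_44 : T.rot 2 [5, 3, 4, 6, 1, 5, 2, 6, 5, 2, 1, 6, 3, 4] (sel (ones 2835) ip2 44) = true := by decide +kernel

theorem rot2_44r : band (Rule.ok (2 * 6) EX RL ⟨2 :: [5, 3, 4, 6, 1, 5, 2, 6, 5, 2, 1, 6, 3, 4], [4, 6], 20, false⟩) (lall (memL L) [5, 3, 4, 6, 1, 5, 2, 6, 5, 2, 1, 6, 3, 4]) = true := by decide +kernel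

theorem rot2_45 : T.rot 2 [6, 5, 2, 1, 6, 3, 4, 2, 5, 3, 4, 6, 1, 5] (sel (ones 2835) ip2 45) = true := by decide +kernel

theorem rot2_45r : band (Rule.ok (2 * 6) EX RL ⟨2 :: [6, 5, 2, 1, 6, 3, 4, 2, 5, 3, 4, 6, 1, 5], [10, 0, 2, 8, 10, 2], 20, false⟩) (lall (memL L) [6, 5, 2, 1, 6, 3, 4, 2, 5, 3, 4, 6, 1, 5]) = true := by decide +kernel

theorem rot2_46 : T.rot 2 [1, 6, 3, 4, 2, 5, 3, 4, 6, 1, 5, 2, 6, 5] (sel (ones 2835) ip2 46) = true := by decide +kernel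

theorem rot2_46r : band (Rule.ok (2 * 6) EX RL ⟨2 :: [1, 6, 3, 4, 2, 5, 3, 4, 6, 1, 5, 2, 6, 5], [10, 0, 2], 20, false⟩) (lall (memL L) [1, 6, 3, 4, 2, 5, 3, 4, 6, 1, 5, 2, 6, 5]) = true := by decide +kernel

theorem cov2 : T.cover 2 [(sel (ones 2835) ip2 1), (sel (ones 2835) ip2 2), (sel (ones 2835) ip2 3), (sel (ones 2835) ip2 4), (sel (ones 2835) ip2 5), (sel (ones 2835) ip2 6), (sel (ones 2835) ip2 7), (sel (ones 2835) ip2 8), (sel (ones 2835) ip2 9), (sel (ones 2835) ip2 10), (sel (ones 2835) ip2 11), (sel (ones 2835) ip2 12), (sel (ones 2835) ip2 13), (sel (ones 2835) ip2 14), (sel (ones 2835) ip2 15), (sel (ones 2835) ip2 16), (sel (ones 2835) ip2 17), (sel (ones 2835) ip2 18), (sel (ones 2835) ip2 19), (sel (ones 2835) ip2 20), (sel (ones 2835) ip2 21), (sel (ones 2835) ip2 22), (sel (ones 2835) ip2 23), (sel (ones 2835) ip2 24), (sel (ones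 2835) ip2 25), (sel (ones 2835) ip2 26), (sel (ones 2835) ip2 27), (sel (ones 2835) ip2 28), (sel (ones 2835) ip2 29), (sel (ones 2835) ip2 30), (sel (ones 2835) ip2 31), (sel (ones 2835) ip2 32), (sel (ones 2835) ip2 33), (sel (ones 2835) ip2 34), (sel (ones 2835) ip2 35), (sel (ones 2835) ip2 36), (sel (ones 2835) ip2 37), (sel (ones 2835) ip2 38), (sel (ones 2835) ip2 39), (sel (ones 2835) ip2 40), (sel (ones 2835) ip2 41), (sel (ones 2835) ip2 42), (sel (ones 2835) ip2 43), (sel (ones 2835) ip2 44), (sel (ones 2835) ip2 45), (sel (ones 2835) ip2 46), 1] = true := by decide +kernel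

theorem tl2 : T.treeLt 12 2 = true := by decide +kernel

theorem rot3_1 : T.rot 3 [3] (sel (ones 2835) ip3 1) = true := by decide +kernel

theorem rot3_1r : band (Rule.ok (2 * 6) EX RL ⟨3 :: [3], [], 21, false⟩) (lall (memL L) [3]) = true := by decide +kernel

theorem rot3_2 : T.rot 3 [1, 3, 1] (sel (ones 2835) ip3 2) = true := by decide +kernel

theorem rot3_2r : band (Rule.ok (2 * 6) EX RL ⟨3 :: [1, 3, 1], [], 11, false⟩) (lall (memL L) [1, 3, 1]) = true := by decide +kernel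

theorem rot3_3 : T.rot 3 [5, 3, 5, 1] (sel (ones 2835) ip3 3) = true := by decide +kernel

theorem rot3_3r : band (Rule.ok (2 * 6) EX RL ⟨3 :: [5, 3, 5, 1], [0], 6, true⟩) (lall (memL L) [5, 3, 5, 1]) = true := by decide +kernel

theorem rot3_4 : T.rot 3 [5, 1, 3, 5] (sel (ones 2835) ip3 4) = true := by decide +kernel

theorem rot3_4r : band (Rule.ok (2 * 6) EX RL ⟨3 :: [5, 1, 3, 5], [8, 4], 6, true⟩) (lall (memL L) [5, 1, 3, 5]) = true := by decide +kernel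

theorem rot3_5 : T.rot 3 [5, 3, 1, 5] (sel (ones 2835) ip3 5) = true := by decide +kernel

theorem rot3_5r : band (Rule.ok (2 * 6) EX RL ⟨3 :: [5, 3, 1, 5], [8], 6, false⟩) (lall (memL L) [5, 3, 1, 5]) = true := by decide +kernel

theorem rot3_6 : T.rot 3 [1, 5, 3, 5] (sel (ones 2835) ip3 6) = true := by decide +kernel

theorem rot3_6r : band (Rule.ok (2 * 6) EX RL ⟨3 :: [1, 5, 3, 5], [0, 4], 6, false⟩) (lall (memL L) [1, 5, 3, 5]) = true := by decide +kernel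

theorem rot3_7 : T.rot 3 [4, 3, 4, 3, 4] (sel (ones 2835) ip3 7) = true := by decide +kernel

theorem rot3_7r : band (Rule.ok (2 * 6) EX RL ⟨3 :: [4, 3, 4, 3, 4], [], 1, true⟩) (lall (memL L) [4, 3, 4, 3, 4]) = true := by decide +kernel

theorem rot3_8 : T.rot 3 [6, 3, 6, 3, 6] (sel (ones 2835) ip3 8) = true := by decide +kernel

theorem rot3_8r : band (Rule.ok (2 * 6) EX RL ⟨3 :: [6, 3, 6, 3, 6], [], 15, true⟩) (lall (memL L) [6, 3, 6, 3, 6]) = true := by decide +kernel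

theorem rot3_9 : T.rot 3 [2, 3, 2, 3, 2, 3, 2] (sel (ones 2835) ip3 9) = true := by decide +kernel

theorem rot3_9r : band (Rule.ok (2 * 6) EX RL ⟨3 :: [2, 3, 2, 3, 2, 3, 2], [], 17, false⟩) (lall (memL L) [2, 3, 2, 3, 2, 3, 2]) = true := by decide +kernel

theorem rot3_10 : T.rot 3 [5, 6, 1, 6, 1, 6, 3, 5] (sel (ones 2835) ip3 10) = true := by decide +kernel

theorem rot3_10r : band (Rule.ok (2 * 6) EX RL ⟨3 :: [5, 6, 1, 6, 1, 6, 3, 5], [], 16, true⟩) (lall (memL L) [5, 6, 1, 6, 1, 6, 3, 5]) = true := by decide +kernel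

theorem rot3_11 : T.rot 3 [5, 3, 5, 6, 1, 6, 1, 6] (sel (ones 2835) ip3 11) = true := by decide +kernel

theorem rot3_11r : band (Rule.ok (2 * 6) EX RL ⟨3 :: [5, 3, 5, 6, 1, 6, 1, 6], [8, 4], 16, true⟩) (lall (memL L) [5, 3, 5, 6, 1, 6, 1, 6]) = true := by decide +kernel

theorem rot3_12 : T.rot 3 [6, 1, 6, 1, 6, 5, 3, 5] (sel (ones 2835) ip3 12) = true := by decide +kernel

theorem rot3_12r : band (Rule.ok (2 * 6) EX RL ⟨3 :: [6, 1, 6, 1, 6, 5, 3, 5], [8], 16, false⟩) (lall (memL L) [6, 1, 6, 1, 6, 5, 3, 5]) = true := by decide +kernel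

theorem rot3_13 : T.rot 3 [5, 3, 6, 1, 6, 1, 6, 5] (sel (ones 2835) ip3 13) = true := by decide +kernel

theorem rot3_13r : band (Rule.ok (2 * 6) EX RL ⟨3 :: [5, 3, 6, 1, 6, 1, 6, 5], [4], 16, false⟩) (lall (memL L) [5, 3, 6, 1, 6, 1, 6, 5]) = true := by decide +kernel

theorem rot3_14 : T.rot 3 [4, 3, 2, 3, 4, 5, 3, 5, 2] (sel (ones 2835) ip3 14) = true := by decide +kernel

theorem rot3_14r : band (Rule.ok (2 * 6) EX RL ⟨3 :: [4, 3, 2, 3, 4, 5, 3, 5, 2], [2], 0, true⟩) (lall (memL L) [4, 3, 2, 3, 4, 5, 3, 5, 2]) = true := by decide +kernel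

theorem rot3_15 : T.rot 3 [2, 3, 4, 5, 3, 5, 2, 3, 4] (sel (ones 2835) ip3 15) = true := by decide +kernel

theorem rot3_15r : band (Rule.ok (2 * 6) EX RL ⟨3 :: [2, 3, 4, 5, 3, 5, 2, 3, 4], [2, 4, 6], 0, true⟩) (lall (memL L) [2, 3, 4, 5, 3, 5, 2, 3, 4]) = true := by decide +kernel

theorem rot3_16 : T.rot 3 [4, 5, 3, 5, 2, 3, 4, 3, 2] (sel (ones 2835) ip3 16) = true := by decide +kernel

theorem rot3_16r : band (Rule.ok (2 * 6) EX RL ⟨3 :: [4, 5, 3, 5, 2, 3, 4, 3, 2], [8, 4, 8, 6, 4], 0, true⟩) (lall (memL L) [4, 5, 3, 5, 2, 3, 4, 3, 2]) = true := by decide +kernel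

theorem rot3_17 : T.rot 3 [5, 2, 3, 4, 3, 2, 3, 4, 5] (sel (ones 2835) ip3 17) = true := by decide +kernel

theorem rot3_17r : band (Rule.ok (2 * 6) EX RL ⟨3 :: [5, 2, 3, 4, 3, 2, 3, 4, 5], [8, 4], 0, true⟩) (lall (memL L) [5, 2, 3, 4, 3, 2, 3, 4, 5]) = true := by decide +kernel

theorem rot3_18 : T.rot 3 [5, 4, 3, 2, 3, 4, 3, 2, 5] (sel (ones 2835) ip3 18) = true := by decide +kernel

theorem rot3_18r : band (Rule.ok (2 * 6) EX RL ⟨3 :: [5, 4, 3, 2, 3, 4, 3, 2, 5], [8], 0, false⟩) (lall (memL L) [5, 4, 3, 2, 3, 4, 3, 2, 5]) = true := by decide +kernel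

theorem rot3_19 : T.rot 3 [2, 3, 4, 3, 2, 5, 3, 5, 4] (sel (ones 2835) ip3 19) = true := by decide +kernel

theorem rot3_19r : band (Rule.ok (2 * 6) EX RL ⟨3 :: [2, 3, 4, 3, 2, 5, 3, 5, 4], [8, 4, 8, 6], 0, false⟩) (lall (memL L) [2, 3, 4, 3, 2, 5, 3, 5, 4]) = true := by decide +kernel

theorem rot3_20 : T.rot 3 [4, 3, 2, 5, 3, 5, 4, 3, 2] (sel (ones 2835) ip3 20) = true := by decide +kernel

theorem rot3_20r : band (Rule.ok (2 * 6) EX RL ⟨3 :: [4, 3, 2, 5, 3, 5, 4, 3, 2], [2, 4, 6, 4], 0, false⟩) (lall (memL L) [4, 3, 2, 5, 3, 5, 4, 3, 2]) = true := by decide +kernel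

theorem rot3_21 : T.rot 3 [2, 5, 3, 5, 4, 3, 2, 3, 4] (sel (ones 2835) ip3 21) = true := by decide +kernel

theorem rot3_21r : band (Rule.ok (2 * 6) EX RL ⟨3 :: [2, 5, 3, 5, 4, 3, 2, 3, 4], [2, 4], 0, false⟩) (lall (memL L) [2, 5, 3, 5, 4, 3, 2, 3, 4]) = true := by decide +kernel

theorem rot3_22 : T.rot 3 [4, 3, 2, 4, 5, 3, 5, 4, 2] (sel (ones 2835) ip3 22) = true := by decide +kernel

theorem rot3_22r : band (Rule.ok (2 * 6) EX RL ⟨3 :: [4, 3, 2, 4, 5, 3, 5, 4, 2], [2], 2, true⟩) (lall (memL L) [4, 3, 2, 4, 5, 3, 5, 4, 2]) = true := by decide +kernel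

theorem rot3_23 : T.rot 3 [2, 4, 5, 3, 5, 4, 2, 3, 4] (sel (ones 2835) ip3 23) = true := by decide +kernel

theorem rot3_23r : band (Rule.ok (2 * 6) EX RL ⟨3 :: [2, 4, 5, 3, 5, 4, 2, 3, 4], [2, 4], 2, false⟩) (lall (memL L) [2, 4, 5, 3, 5, 4, 2, 3, 4]) = true := by decide +kernel

theorem rot3_24 : T.rot 3 [5, 4, 2, 3, 4, 3, 2, 4, 5] (sel (ones 2835) ip3 24) = true := by decide +kernel

theorem rot3_24r : band (Rule.ok (2 * 6) EX RL ⟨3 :: [5, 4, 2, 3, 4, 3, 2, 4, 5], [6, 8], 2, false⟩) (lall (memL L) [5, 4, 2, 3, 4, 3, 2, 4, 5]) = true := by decide +kernel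

theorem rot3_25 : T.rot 3 [5, 3, 4, 2, 5, 2, 4, 5, 2] (sel (ones 2835) ip3 25) = true := by decide +kernel

theorem rot3_25r : band (Rule.ok (2 * 6) EX RL ⟨3 :: [5, 3, 4, 2, 5, 2, 4, 5, 2], [2], 3, true⟩) (lall (memL L) [5, 3, 4, 2, 5, 2, 4, 5, 2]) = true := by decide +kernel

theorem rot3_26 : T.rot 3 [4, 2, 5, 2, 4, 5, 2, 3, 5] (sel (ones 2835) ip3 26) = true := by decide +kernel

theorem rot3_26r : band (Rule.ok (2 * 6) EX RL ⟨3 :: [4, 2, 5, 2, 4, 5, 2, 3, 5], [2, 4, 8], 3, true⟩) (lall (memL L) [4, 2, 5, 2, 4, 5, 2, 3, 5]) = true := by decide +kernel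

theorem rot3_27 : T.rot 3 [5, 3, 2, 5, 4, 2, 5, 2, 4] (sel (ones 2835) ip3 27) = true := by decide +kernel

theorem rot3_27r : band (Rule.ok (2 * 6) EX RL ⟨3 :: [5, 3, 2, 5, 4, 2, 5, 2, 4], [2, 4, 8, 4], 3, false⟩) (lall (memL L) [5, 3, 2, 5, 4, 2, 5, 2, 4]) = true := by decide +kernel

theorem rot3_28 : T.rot 3 [2, 5, 4, 2, 5, 2, 4, 3, 5] (sel (ones 2835) ip3 28) = true := by decide +kernel

theorem rot3_28r : band (Rule.ok (2 * 6) EX RL ⟨3 :: [2, 5, 4, 2, 5, 2, 4, 3, 5], [2, 4], 3, false⟩) (lall (memL L) [2, 5, 4, 2, 5, 2, 4, 3, 5]) = true := by decide +kernel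

theorem rot3_29 : T.rot 3 [2, 5, 2, 4, 3, 2, 5, 4, 5, 3, 4, 5, 2] (sel (ones 2835) ip3 29) = true := by decide +kernel

theorem rot3_29r : band (Rule.ok (2 * 6) EX RL ⟨3 :: [2, 5, 2, 4, 3, 2, 5, 4, 5, 3, 4, 5, 2], [2], 5, true⟩) (lall (memL L) [2, 5, 2, 4, 3, 2, 5, 4, 5, 3, 4, 5, 2]) = true := by decide +kernel

theorem rot3_30 : T.rot 3 [2, 5, 4, 5, 3, 4, 5, 2, 3, 2, 5, 2, 4] (sel (ones 2835) ip3 30) = true := by decide +kernel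

theorem rot3_30r : band (Rule.ok (2 * 6) EX RL ⟨3 :: [2, 5, 4, 5, 3, 4, 5, 2, 3, 2, 5, 2, 4], [2, 4, 2, 8, 2, 6], 5, true⟩) (lall (memL L) [2, 5, 4, 5, 3, 4, 5, 2, 3, 2, 5, 2, 4]) = true := by decide +kernel

theorem rot3_31 : T.rot 3 [4, 5, 2, 3, 2, 5, 2, 4, 3, 2, 5, 4, 5] (sel (ones 2835) ip3 31) = true := by decide +kernel

theorem rot3_31r : band (Rule.ok (2 * 6) EX RL ⟨3 :: [4, 5, 2, 3, 2, 5, 2, 4, 3, 2, 5, 4, 5], [8, 6, 4], 5, true⟩) (lall (memL L) [4, 5, 2, 3, 2, 5, 2, 4, 3, 2, 5, 4, 5]) = true := by decide +kernel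

theorem rot3_32 : T.rot 3 [5, 4, 5, 2, 3, 4, 2, 5, 2, 3, 2, 5, 4] (sel (ones 2835) ip3 32) = true := by decide +kernel

theorem rot3_32r : band (Rule.ok (2 * 6) EX RL ⟨3 :: [5, 4, 5, 2, 3, 4, 2, 5, 2, 3, 2, 5, 4], [8, 6], 5, false⟩) (lall (memL L) [5, 4, 5, 2, 3, 4, 2, 5, 2, 3, 2, 5, 4]) = true := by decide +kernel

theorem rot3_33 : T.rot 3 [4, 2, 5, 2, 3, 2, 5, 4, 3, 5, 4, 5, 2] (sel (ones 2835) ip3 33) = true := by decide +kernel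

theorem rot3_33r : band (Rule.ok (2 * 6) EX RL ⟨3 :: [4, 2, 5, 2, 3, 2, 5, 4, 3, 5, 4, 5, 2], [2, 4, 2, 8, 2, 6, 4], 5, false⟩) (lall (memL L) [4, 2, 5, 2, 3, 2, 5, 4, 3, 5, 4, 5, 2]) = true := by decide +kernel

theorem rot3_34 : T.rot 3 [2, 5, 4, 3, 5, 4, 5, 2, 3, 4, 2, 5, 2] (sel (ones 2835) ip3 34) = true := by decide +kernel

theorem rot3_34r : band (Rule.ok (2 * 6) EX RL ⟨3 :: [2, 5, 4, 3, 5, 4, 5, 2, 3, 4, 2, 5, 2], [2, 4], 5, false⟩) (lall (memL L) [2, 5, 4, 3, 5, 4, 5, 2, 3, 4, 2, 5, 2]) = true := by decide +kernel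

theorem rot3_35 : T.rot 3 [4, 6, 3, 4, 1, 6, 2, 4, 5, 2, 3, 2, 6, 1] (sel (ones 2835) ip3 35) = true := by decide +kernel

theorem rot3_35r : band (Rule.ok (2 * 6) EX RL ⟨3 :: [4, 6, 3, 4, 1, 6, 2, 4, 5, 2, 3, 2, 6, 1], [10, 0], 19, true⟩) (lall (memL L) [4, 6, 3, 4, 1, 6, 2, 4, 5, 2, 3, 2, 6, 1]) = true := by decide +kernel

theorem rot3_36 : T.rot 3 [4, 1, 6, 2, 4, 5, 2, 3, 2, 6, 1, 3, 4, 6] (sel (ones 2835) ip3 36) = true := by decide +kernel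

theorem rot3_36r : band (Rule.ok (2 * 6) EX RL ⟨3 :: [4, 1, 6, 2, 4, 5, 2, 3, 2, 6, 1, 3, 4, 6], [10, 0, 4, 6, 10], 19, true⟩) (lall (memL L) [4, 1, 6, 2, 4, 5, 2, 3, 2, 6, 1, 3, 4, 6]) = true := by decide +kernel

theorem rot3_37 : T.rot 3 [2, 6, 1, 3, 4, 6, 3, 4, 1, 6, 2, 4, 5, 2] (sel (ones 2835) ip3 37) = true := by decide +kernel

theorem rot3_37r : band (Rule.ok (2 * 6) EX RL ⟨3 :: [2, 6, 1, 3, 4, 6, 3, 4, 1, 6, 2, 4, 5, 2], [2, 4], 19, true⟩) (lall (memL L) [2, 6, 1, 3, 4, 6, 3, 4, 1, 6, 2, 4, 5, 2]) = true := by decide +kernel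

theorem rot3_38 : T.rot 3 [2, 5, 4, 2, 6, 1, 4, 3, 6, 4, 3, 1, 6, 2] (sel (ones 2835) ip3 38) = true := by decide +kernel

theorem rot3_38r : band (Rule.ok (2 * 6) EX RL ⟨3 :: [2, 5, 4, 2, 6, 1, 4, 3, 6, 4, 3, 1, 6, 2], [2], 19, false⟩) (lall (memL L) [2, 5, 4, 2, 6, 1, 4, 3, 6, 4, 3, 1, 6, 2]) = true := by decide +kernel

theorem rot3_39 : T.rot 3 [6, 4, 3, 1, 6, 2, 3, 2, 5, 4, 2, 6, 1, 4] (sel (ones 2835) ip3 39) = true := by decide +kernel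

theorem rot3_39r : band (Rule.ok (2 * 6) EX RL ⟨3 :: [6, 4, 3, 1, 6, 2, 3, 2, 5, 4, 2, 6, 1, 4], [10, 0, 4, 6, 10, 4], 19, false⟩) (lall (memL L) [6, 4, 3, 1, 6, 2, 3, 2, 5, 4, 2, 6, 1, 4]) = true := by decide +kernel

theorem rot3_40 : T.rot 3 [1, 6, 2, 3, 2, 5, 4, 2, 6, 1, 4, 3, 6, 4] (sel (ones 2835) ip3 40) = true := by decide +kernel

theorem rot3_40r : band (Rule.ok (2 * 6) EX RL ⟨3 :: [1, 6, 2, 3, 2, 5, 4, 2, 6, 1, 4, 3, 6, 4], [10, 0, 4], 19, false⟩) (lall (memL L) [1, 6, 2, 3, 2, 5, 4, 2, 6, 1, 4, 3, 6, 4]) = true := by decide +kernel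

theorem rot3_41 : T.rot 3 [5, 2, 4, 3, 6, 1, 2, 5, 6, 2, 5, 1, 6, 4] (sel (ones 2835) ip3 41) = true := by decide +kernel

theorem rot3_41r : band (Rule.ok (2 * 6) EX RL ⟨3 :: [5, 2, 4, 3, 6, 1, 2, 5, 6, 2, 5, 1, 6, 4], [4, 6, 2, 8, 4], 20, true⟩) (lall (memL L) [5, 2, 4, 3, 6, 1, 2, 5, 6, 2, 5, 1, 6, 4]) = true := by decide +kernel

theorem rot3_42 : T.rot 3 [6, 1, 2, 5, 6, 2, 5, 1, 6, 4, 3, 5, 2, 4] (sel (ones 2835) ip3 42) = true := by decide +kernel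

theorem rot3_42r : band (Rule.ok (2 * 6) EX RL ⟨3 :: [6, 1, 2, 5, 6, 2, 5, 1, 6, 4, 3, 5, 2, 4], [4], 20, true⟩) (lall (memL L) [6, 1, 2, 5, 6, 2, 5, 1, 6, 4, 3, 5, 2, 4]) = true := by decide +kernel

theorem rot3_43 : T.rot 3 [4, 2, 5, 3, 4, 6, 1, 5, 2, 6, 5, 2, 1, 6] (sel (ones 2835) ip3 43) = true := by decide +kernel

theorem rot3_43r : band (Rule.ok (2 * 6) EX RL ⟨3 :: [4, 2, 5, 3, 4, 6, 1, 5, 2, 6, 5, 2, 1, 6], [], 20, false⟩) (lall (memL L) [4, 2, 5, 3, 4, 6, 1, 5, 2, 6, 5, 2, 1, 6]) = true := by decide +kernel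

theorem rot3_44 : T.rot 3 [4, 6, 1, 5, 2, 6, 5, 2, 1, 6, 3, 4, 2, 5] (sel (ones 2835) ip3 44) = true := by decide +kernel

theorem rot3_44r : band (Rule.ok (2 * 6) EX RL ⟨3 :: [4, 6, 1, 5, 2, 6, 5, 2, 1, 6, 3, 4, 2, 5], [4, 6, 2, 8], 20, false⟩) (lall (memL L) [4, 6, 1, 5, 2, 6, 5, 2, 1, 6, 3, 4, 2, 5]) = true := by decide +kernel

theorem cov3 : T.cover 3 [(sel (ones 2835) ip3 1), (sel (ones 2835) ip3 2), (sel (ones 2835) ip3 3), (sel (ones 2835) ip3 4), (sel (ones 2835) ip3 5), (sel (ones 2835) ip3 6), (sel (ones 2835) ip3 7), (sel (ones 2835) ip3 8), (sel (ones 2835) ip3 9), (sel (ones 2835) ip3 10), (sel (ones 2835) ip3 11), (sel (ones 2835) ip3 12), (sel (ones 2835) ip3 13), (sel (ones 2835) ip3 14), (sel (ones 2835) ip3 15), (sel (ones 2835) ip3 16), (sel (ones 2835) ip3 17), (sel (ones 2835) ip3 18), (sel (ones 2835) ip3 19), (sel (ones 2835)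 ip3 20), (sel (ones 2835) ip3 21), (sel (ones 2835) ip3 22), (sel (ones 2835) ip3 23), (sel (ones 2835) ip3 24), (sel (ones 2835) ip3 25), (sel (ones 2835) ip3 26), (sel (ones 2835) ip3 27), (sel (ones 2835) ip3 28), (sel (ones 2835) ip3 29), (sel (ones 2835) ip3 30), (sel (ones 2835) ip3 31), (sel (ones 2835) ip3 32), (sel (ones 2835) ip3 33), (sel (ones 2835) ip3 34), (sel (ones 2835) ip3 35), (sel (ones 2835) ip3 36), (sel (ones 2835) ip3 37), (sel (ones 2835) ip3 38), (sel (ones 2835) ip3 39), (sel (ones 2835) ip3 40), (sel (ones 2835) ip3 41), (sel (ones 2835) ip3 42), (sel (ones 2835) ip3 43), (sel (ones 2835) ip3 44), 1] = true := by decide +kernel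

theorem tl3 : T.treeLt 12 3 = true := by decide +kernel

theorem rot4_1 : T.rot 4 [4] (sel (ones 2835) ip4 1) = true := by decide +kernel

theorem rot4_1r : band (Rule.ok (2 * 6) EX RL ⟨4 :: [4], [], 21, false⟩) (lall (memL L) [4]) = true := by decide +kernel

theorem rot4_2 : T.rot 4 [1, 4, 1] (sel (ones 2835) ip4 2) = true := by decide +kernel

theorem rot4_2r : band (Rule.ok (2 * 6) EX RL ⟨4 :: [1, 4, 1], [], 8, false⟩) (lall (memL L) [1, 4, 1]) = true := by decide +kernel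

theorem rot4_3 : T.rot 4 [3, 4, 3, 4, 3] (sel (ones 2835) ip4 3) = true := by decide +kernel

theorem rot4_3r : band (Rule.ok (2 * 6) EX RL ⟨4 :: [3, 4, 3, 4, 3], [], 1, false⟩) (lall (memL L) [3, 4, 3, 4, 3]) = true := by decide +kernel

theorem rot4_4 : T.rot 4 [6, 4, 6, 4, 6] (sel (ones 2835) ip4 4) = true := by decide +kernel

theorem rot4_4r : band (Rule.ok (2 * 6) EX RL ⟨4 :: [6, 4, 6, 4, 6], [], 14, true⟩) (lall (memL L) [6, 4, 6, 4, 6]) = true := by decide +kernel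

theorem rot4_5 : T.rot 4 [3, 2, 3, 4, 5, 3, 5, 2, 3] (sel (ones 2835) ip4 5) = true := by decide +kernel

theorem rot4_5r : band (Rule.ok (2 * 6) EX RL ⟨4 :: [3, 2, 3, 4, 5, 3, 5, 2, 3], [2, 4], 0, true⟩) (lall (memL L) [3, 2, 3, 4, 5, 3, 5, 2, 3]) = true := by decide +kernel

theorem rot4_6 : T.rot 4 [5, 3, 5, 2, 3, 4, 3, 2, 3] (sel (ones 2835) ip4 6) = true := by decide +kernel

theorem rot4_6r : band (Rule.ok (2 * 6) EX RL ⟨4 :: [5, 3, 5, 2, 3, 4, 3, 2, 3], [8, 4, 8, 6], 0, true⟩) (lall (memL L) [5, 3, 5, 2, 3, 4, 3, 2, 3]) = true := by decide +kernel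

theorem rot4_7 : T.rot 4 [3, 2, 3, 4, 3, 2, 5, 3, 5] (sel (ones 2835) ip4 7) = true := by decide +kernel

theorem rot4_7r : band (Rule.ok (2 * 6) EX RL ⟨4 :: [3, 2, 3, 4, 3, 2, 5, 3, 5], [8, 4, 8], 0, false⟩) (lall (memL L) [3, 2, 3, 4, 3, 2, 5, 3, 5]) = true := by decide +kernel

theorem rot4_8 : T.rot 4 [3, 2, 5, 3, 5, 4, 3, 2, 3] (sel (ones 2835) ip4 8) = true := by decide +kernel

theorem rot4_8r : band (Rule.ok (2 * 6) EX RL ⟨4 :: [3, 2, 5, 3, 5, 4, 3, 2, 3], [2, 4, 6], 0, false⟩) (lall (memL L) [3, 2, 5, 3, 5, 4, 3, 2, 3]) = true := by decide +kernel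

theorem rot4_9 : T.rot 4 [3, 2, 4, 5, 3, 5, 4, 2, 3] (sel (ones 2835) ip4 9) = true := by decide +kernel

theorem rot4_9r : band (Rule.ok (2 * 6) EX RL ⟨4 :: [3, 2, 4, 5, 3, 5, 4, 2, 3], [2, 4], 2, true⟩) (lall (memL L) [3, 2, 4, 5, 3, 5, 4, 2, 3]) = true := by decide +kernel

theorem rot4_10 : T.rot 4 [5, 3, 5, 4, 2, 3, 4, 3, 2] (sel (ones 2835) ip4 10) = true := by decide +kernel

theorem rot4_10r : band (Rule.ok (2 * 6) EX RL ⟨4 :: [5, 3, 5, 4, 2, 3, 4, 3, 2], [], 2, false⟩) (lall (memL L) [5, 3, 5, 4, 2, 3, 4, 3, 2]) = true := by decide +kernel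

theorem rot4_11 : T.rot 4 [2, 3, 4, 3, 2, 4, 5, 3, 5] (sel (ones 2835) ip4 11) = true := by decide +kernel

theorem rot4_11r : band (Rule.ok (2 * 6) EX RL ⟨4 :: [2, 3, 4, 3, 2, 4, 5, 3, 5], [6], 2, true⟩) (lall (memL L) [2, 3, 4, 3, 2, 4, 5, 3, 5]) = true := by decide +kernel

theorem rot4_12 : T.rot 4 [2, 5, 2, 4, 5, 2, 3, 5, 3] (sel (ones 2835) ip4 12) = true := by decide +kernel

theorem rot4_12r : band (Rule.ok (2 * 6) EX RL ⟨4 :: [2, 5, 2, 4, 5, 2, 3, 5, 3], [2, 4, 8, 4], 3, true⟩) (lall (memL L) [2, 5, 2, 4, 5, 2, 3, 5, 3]) = true := by decide +kernel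

theorem rot4_13 : T.rot 4 [5, 2, 3, 5, 3, 4, 2, 5, 2] (sel (ones 2835) ip4 13) = true := by decide +kernel

theorem rot4_13r : band (Rule.ok (2 * 6) EX RL ⟨4 :: [5, 2, 3, 5, 3, 4, 2, 5, 2], [8, 6], 3, true⟩) (lall (memL L) [5, 2, 3, 5, 3, 4, 2, 5, 2]) = true := by decide +kernel

theorem rot4_14 : T.rot 4 [2, 5, 2, 4, 3, 5, 3, 2, 5] (sel (ones 2835) ip4 14) = true := by decide +kernel

theorem rot4_14r : band (Rule.ok (2 * 6) EX RL ⟨4 :: [2, 5, 2, 4, 3, 5, 3, 2, 5], [8], 3, false⟩) (lall (memL L) [2, 5, 2, 4, 3, 5, 3, 2, 5]) = true := by decide +kernel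

theorem rot4_15 : T.rot 4 [3, 5, 3, 2, 5, 4, 2, 5, 2] (sel (ones 2835) ip4 15) = true := by decide +kernel

theorem rot4_15r : band (Rule.ok (2 * 6) EX RL ⟨4 :: [3, 5, 3, 2, 5, 4, 2, 5, 2], [2, 4, 8, 4, 6], 3, false⟩) (lall (memL L) [3, 5, 3, 2, 5, 4, 2, 5, 2]) = true := by decide +kernel

theorem rot4_16 : T.rot 4 [5, 2, 4, 5, 4, 2, 5, 4, 2] (sel (ones 2835) ip4 16) = true := by decide +kernel

theorem rot4_16r : band (Rule.ok (2 * 6) EX RL ⟨4 :: [5, 2, 4, 5, 4, 2, 5, 4, 2], [], 4, false⟩) (lall (memL L) [5, 2, 4, 5, 4, 2, 5, 4, 2]) = true := by decide +kernel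

theorem rot4_17 : T.rot 4 [5, 4, 2, 5, 4, 2, 4, 5, 2] (sel (ones 2835) ip4 17) = true := by decide +kernel

theorem rot4_17r : band (Rule.ok (2 * 6) EX RL ⟨4 :: [5, 4, 2, 5, 4, 2, 4, 5, 2], [6, 8, 2], 4, false⟩) (lall (memL L) [5, 4, 2, 5, 4, 2, 4, 5, 2]) = true := by decide +kernel

theorem rot4_18 : T.rot 4 [2, 5, 4, 2, 4, 5, 2, 4, 5] (sel (ones 2835) ip4 18) = true := by decide +kernel

theorem rot4_18r : band (Rule.ok (2 * 6) EX RL ⟨4 :: [2, 5, 4, 2, 4, 5, 2, 4, 5], [6, 8, 2, 6], 4, true⟩) (lall (memL L) [2, 5, 4, 2, 4, 5, 2, 4, 5]) = true := by decide +kernel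

theorem rot4_19 : T.rot 4 [2, 4, 5, 2, 4, 5, 4, 2, 5] (sel (ones 2835) ip4 19) = true := by decide +kernel

theorem rot4_19r : band (Rule.ok (2 * 6) EX RL ⟨4 :: [2, 4, 5, 2, 4, 5, 4, 2, 5], [6], 4, true⟩) (lall (memL L) [2, 4, 5, 2, 4, 5, 4, 2, 5]) = true := by decide +kernel

theorem rot4_20 : T.rot 4 [3, 2, 5, 4, 5, 3, 4, 5, 2, 3, 2, 5, 2] (sel (ones 2835) ip4 20) = true := by decide +kernel

theorem rot4_20r : band (Rule.ok (2 * 6) EX RL ⟨4 :: [3, 2, 5, 4, 5, 3, 4, 5, 2, 3, 2, 5, 2], [2, 4, 2, 8, 2], 5, true⟩) (lall (memL L) [3, 2, 5, 4, 5, 3, 4, 5, 2, 3, 2, 5, 2]) = true := by decide +kernel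

theorem rot4_21 : T.rot 4 [5, 3, 4, 5, 2, 3, 2, 5, 2, 4, 3, 2, 5] (sel (ones 2835) ip4 21) = true := by decide +kernel

theorem rot4_21r : band (Rule.ok (2 * 6) EX RL ⟨4 :: [5, 3, 4, 5, 2, 3, 2, 5, 2, 4, 3, 2, 5], [8, 6, 4, 8, 6], 5, true⟩) (lall (memL L) [5, 3, 4, 5, 2, 3, 2, 5, 2, 4, 3, 2, 5]) = true := by decide +kernel

theorem rot4_22 : T.rot 4 [5, 2, 3, 2, 5, 2, 4, 3, 2, 5, 4, 5, 3] (sel (ones 2835) ip4 22) = true := by decide +kernel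

theorem rot4_22r : band (Rule.ok (2 * 6) EX RL ⟨4 :: [5, 2, 3, 2, 5, 2, 4, 3, 2, 5, 4, 5, 3], [8, 6], 5, true⟩) (lall (memL L) [5, 2, 3, 2, 5, 2, 4, 3, 2, 5, 4, 5, 3]) = true := by decide +kernel

theorem rot4_23 : T.rot 4 [3, 5, 4, 5, 2, 3, 4, 2, 5, 2, 3, 2, 5] (sel (ones 2835) ip4 23) = true := by decide +kernel

theorem rot4_23r : band (Rule.ok (2 * 6) EX RL ⟨4 :: [3, 5, 4, 5, 2, 3, 4, 2, 5, 2, 3, 2, 5], [8], 5, false⟩) (lall (memL L) [3, 5, 4, 5, 2, 3, 4, 2, 5, 2, 3, 2, 5]) = true := by decide +kernel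

theorem rot4_24 : T.rot 4 [5, 2, 3, 4, 2, 5, 2, 3, 2, 5, 4, 3, 5] (sel (ones 2835) ip4 24) = true := by decide +kernel

theorem rot4_24r : band (Rule.ok (2 * 6) EX RL ⟨4 :: [5, 2, 3, 4, 2, 5, 2, 3, 2, 5, 4, 3, 5], [8, 6, 4, 8], 5, false⟩) (lall (memL L) [5, 2, 3, 4, 2, 5, 2, 3, 2, 5, 4, 3, 5]) = true := by decide +kernel

theorem rot4_25 : T.rot 4 [2, 5, 2, 3, 2, 5, 4, 3, 5, 4, 5, 2, 3] (sel (ones 2835) ip4 25) = true := by decide +kernel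

theorem rot4_25r : band (Rule.ok (2 * 6) EX RL ⟨4 :: [2, 5, 2, 3, 2, 5, 4, 3, 5, 4, 5, 2, 3], [2, 4, 2, 8, 2, 6], 5, false⟩) (lall (memL L) [2, 5, 2, 3, 2, 5, 4, 3, 5, 4, 5, 2, 3]) = true := by decide +kernel

theorem rot4_26 : T.rot 4 [2, 6, 1, 6, 4, 2, 6, 4, 5, 1, 5, 2, 6] (sel (ones 2835) ip4 26) = true := by decide +kernel

theorem rot4_26r : band (Rule.ok (2 * 6) EX RL ⟨4 :: [2, 6, 1, 6, 4, 2, 6, 4, 5, 1, 5, 2, 6], [8, 2, 10], 18, true⟩) (lall (memL L) [2, 6, 1, 6, 4, 2, 6, 4, 5, 1, 5, 2, 6]) = true := by decide +kernel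

theorem rot4_27 : T.rot 4 [2, 6, 4, 5, 1, 5, 2, 6, 4, 2, 6, 1, 6] (sel (ones 2835) ip4 27) = true := by decide +kernel

theorem rot4_27r : band (Rule.ok (2 * 6) EX RL ⟨4 :: [2, 6, 4, 5, 1, 5, 2, 6, 4, 2, 6, 1, 6], [0, 8, 6, 10, 2, 6], 18, true⟩) (lall (memL L) [2, 6, 4, 5, 1, 5, 2, 6, 4, 2, 6, 1, 6]) = true := by decide +kernel

theorem rot4_28 : T.rot 4 [5, 1, 5, 2, 6, 4, 2, 6, 1, 6, 4, 2, 6] (sel (ones 2835) ip4 28) = true := by decide +kernel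

theorem rot4_28r : band (Rule.ok (2 * 6) EX RL ⟨4 :: [5, 1, 5, 2, 6, 4, 2, 6, 1, 6, 4, 2, 6], [0, 8, 6], 18, true⟩) (lall (memL L) [5, 1, 5, 2, 6, 4, 2, 6, 1, 6, 4, 2, 6]) = true := by decide +kernel

theorem rot4_29 : T.rot 4 [6, 2, 4, 6, 1, 6, 2, 4, 6, 2, 5, 1, 5] (sel (ones 2835) ip4 29) = true := by decide +kernel

theorem rot4_29r : band (Rule.ok (2 * 6) EX RL ⟨4 :: [6, 2, 4, 6, 1, 6, 2, 4, 6, 2, 5, 1, 5], [0, 8], 18, false⟩) (lall (memL L) [6, 2, 4, 6, 1, 6, 2, 4, 6, 2, 5, 1, 5]) = true := by decide +kernel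

theorem rot4_30 : T.rot 4 [6, 1, 6, 2, 4, 6, 2, 5, 1, 5, 4, 6, 2] (sel (ones 2835) ip4 30) = true := by decide +kernel

theorem rot4_30r : band (Rule.ok (2 * 6) EX RL ⟨4 :: [6, 1, 6, 2, 4, 6, 2, 5, 1, 5, 4, 6, 2], [0, 8, 6, 10, 2], 18, false⟩) (lall (memL L) [6, 1, 6, 2, 4, 6, 2, 5, 1, 5, 4, 6, 2]) = true := by decide +kernel

theorem rot4_31 : T.rot 4 [6, 2, 5, 1, 5, 4, 6, 2, 4, 6, 1, 6, 2] (sel (ones 2835) ip4 31) = true := by decide +kernel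

theorem rot4_31r : band (Rule.ok (2 * 6) EX RL ⟨4 :: [6, 2, 5, 1, 5, 4, 6, 2, 4, 6, 1, 6, 2], [8, 2, 10, 6], 18, false⟩) (lall (memL L) [6, 2, 5, 1, 5, 4, 6, 2, 4, 6, 1, 6, 2]) = true := by decide +kernel

theorem rot4_32 : T.rot 4 [6, 3, 4, 1, 6, 2, 4, 5, 2, 3, 2, 6, 1, 3] (sel (ones 2835) ip4 32) = true := by decide +kernel

theorem rot4_32r : band (Rule.ok (2 * 6) EX RL ⟨4 :: [6, 3, 4, 1, 6, 2, 4, 5, 2, 3, 2, 6, 1, 3], [10, 0, 4], 19, true⟩) (lall (memL L) [6, 3, 4, 1, 6, 2, 4, 5, 2, 3, 2, 6, 1, 3]) = true := by decide +kernel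

theorem rot4_33 : T.rot 4 [1, 6, 2, 4, 5, 2, 3, 2, 6, 1, 3, 4, 6, 3] (sel (ones 2835) ip4 33) = true := by decide +kernel

theorem rot4_33r : band (Rule.ok (2 * 6) EX RL ⟨4 :: [1, 6, 2, 4, 5, 2, 3, 2, 6, 1, 3, 4, 6, 3], [10, 0, 4, 6, 10, 4], 19, true⟩) (lall (memL L) [1, 6, 2, 4, 5, 2, 3, 2, 6, 1, 3, 4, 6, 3]) = true := by decide +kernel

theorem rot4_34 : T.rot 4 [5, 2, 3, 2, 6, 1, 3, 4, 6, 3, 4, 1, 6, 2] (sel (ones 2835) ip4 34) = true := by decide +kernel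

theorem rot4_34r : band (Rule.ok (2 * 6) EX RL ⟨4 :: [5, 2, 3, 2, 6, 1, 3, 4, 6, 3, 4, 1, 6, 2], [2, 4, 2, 8, 6], 19, true⟩) (lall (memL L) [5, 2, 3, 2, 6, 1, 3, 4, 6, 3, 4, 1, 6, 2]) = true := by decide +kernel

theorem rot4_35 : T.rot 4 [2, 6, 1, 4, 3, 6, 4, 3, 1, 6, 2, 3, 2, 5] (sel (ones 2835) ip4 35) = true := by decide +kernel

theorem rot4_35r : band (Rule.ok (2 * 6) EX RL ⟨4 :: [2, 6, 1, 4, 3, 6, 4, 3, 1, 6, 2, 3, 2, 5], [2, 4, 2, 8], 19, false⟩) (lall (memL L) [2, 6, 1, 4, 3, 6, 4, 3, 1, 6, 2, 3, 2, 5]) = true := by decide +kernel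

theorem rot4_36 : T.rot 4 [3, 6, 4, 3, 1, 6, 2, 3, 2, 5, 4, 2, 6, 1] (sel (ones 2835) ip4 36) = true := by decide +kernel

theorem rot4_36r : band (Rule.ok (2 * 6) EX RL ⟨4 :: [3, 6, 4, 3, 1, 6, 2, 3, 2, 5, 4, 2, 6, 1], [10, 0, 4, 6, 10, 4, 6], 19, false⟩) (lall (memL L) [3, 6, 4, 3, 1, 6, 2, 3, 2, 5, 4, 2, 6, 1]) = true := by decide +kernel

theorem rot4_37 : T.rot 4 [3, 1, 6, 2, 3, 2, 5, 4, 2, 6, 1, 4, 3, 6] (sel (ones 2835) ip4 37) = true := by decide +kernel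

theorem rot4_37r : band (Rule.ok (2 * 6) EX RL ⟨4 :: [3, 1, 6, 2, 3, 2, 5, 4, 2, 6, 1, 4, 3, 6], [10, 0, 4, 6], 19, false⟩) (lall (memL L) [3, 1, 6, 2, 3, 2, 5, 4, 2, 6, 1, 4, 3, 6]) = true := by decide +kernel

theorem rot4_38 : T.rot 4 [3, 5, 2, 4, 3, 6, 1, 2, 5, 6, 2, 5, 1, 6] (sel (ones 2835) ip4 38) = true := by decide +kernel

theorem rot4_38r : band (Rule.ok (2 * 6) EX RL ⟨4 :: [3, 5, 2, 4, 3, 6, 1, 2, 5, 6, 2, 5, 1, 6], [4, 6, 2, 8, 4, 6], 20, true⟩) (lall (memL L) [3, 5, 2, 4, 3, 6, 1, 2, 5, 6, 2, 5, 1, 6]) = true := by decide +kernel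

theorem rot4_39 : T.rot 4 [3, 6, 1, 2, 5, 6, 2, 5, 1, 6, 4, 3, 5, 2] (sel (ones 2835) ip4 39) = true := by decide +kernel

theorem rot4_39r : band (Rule.ok (2 * 6) EX RL ⟨4 :: [3, 6, 1, 2, 5, 6, 2, 5, 1, 6, 4, 3, 5, 2], [4, 6], 20, true⟩) (lall (memL L) [3, 6, 1, 2, 5, 6, 2, 5, 1, 6, 4, 3, 5, 2]) = true := by decide +kernel

theorem rot4_40 : T.rot 4 [2, 5, 3, 4, 6, 1, 5, 2, 6, 5, 2, 1, 6, 3] (sel (ones 2835) ip4 40) = true := by decide +kernel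

theorem rot4_40r : band (Rule.ok (2 * 6) EX RL ⟨4 :: [2, 5, 3, 4, 6, 1, 5, 2, 6, 5, 2, 1, 6, 3], [4], 20, false⟩) (lall (memL L) [2, 5, 3, 4, 6, 1, 5, 2, 6, 5, 2, 1, 6, 3]) = true := by decide +kernel

theorem rot4_41 : T.rot 4 [6, 1, 5, 2, 6, 5, 2, 1, 6, 3, 4, 2, 5, 3] (sel (ones 2835) ip4 41) = true := by decide +kernel

theorem rot4_41r : band (Rule.ok (2 * 6) EX RL ⟨4 :: [6, 1, 5, 2, 6, 5, 2, 1, 6, 3, 4, 2, 5, 3], [4, 6, 2, 8, 4], 20, false⟩) (lall (memL L) [6, 1, 5, 2, 6, 5, 2, 1, 6, 3, 4, 2, 5, 3]) = true := by decide +kernel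

theorem cov4 : T.cover 4 [(sel (ones 2835) ip4 1), (sel (ones 2835) ip4 2), (sel (ones 2835) ip4 3), (sel (ones 2835) ip4 4), (sel (ones 2835) ip4 5), (sel (ones 2835) ip4 6), (sel (ones 2835) ip4 7), (sel (ones 2835) ip4 8), (sel (ones 2835) ip4 9), (sel (ones 2835) ip4 10), (sel (ones 2835) ip4 11), (sel (ones 2835) ip4 12), (sel (ones 2835) ip4 13), (sel (ones 2835) ip4 14), (sel (ones 2835) ip4 15), (sel (ones 2835) ip4 16), (sel (ones 2835) ip4 17), (sel (ones 2835) ip4 18), (sel (ones 2835) ip4 19), (sel (ones 2835) ip4 20), (sel (ones 2835) ip4 21), (sel (ones 2835) ip4 22), (sel (ones 2835) ip4 23), (sel (ones 2835) ip4 24), (sel (ones 2835) ip4 25), (sel (ones 2835) ip4 26), (sel (ones 2835) ip4 27), (sel (ones 2835) ip4 28), (sel (ones 2835) ip4 29), (sel (ones 2835) ip4 30), (sel (ones 2835) ip4 31), (sel (ones 2835) ip4 32), (sel (ones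 2835) ip4 33), (sel (ones 2835) ip4 34), (sel (ones 2835) ip4 35), (sel (ones 2835) ip4 36), (sel (ones 2835) ip4 37), (sel (ones 2835) ip4 38), (sel (ones 2835) ip4 39), (sel (ones 2835) ip4 40), (sel (ones 2835) ip4 41), 1] = true := by decide +kernel

theorem tl4 : T.treeLt 12 4 = true := by decide +kernel

theorem rot5_1 : T.rot 5 [5] (sel (ones 2835) ip5 1) = true := by decide +kernel

theorem rot5_1r : band (Rule.ok (2 * 6) EX RL ⟨5 :: [5], [], 21, false⟩) (lall (memL L) [5]) = true := by decide +kernel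

theorem rot5_2 : T.rot 5 [1, 5, 1] (sel (ones 2835) ip5 2) = true := by decide +kernel

theorem rot5_2r : band (Rule.ok (2 * 6) EX RL ⟨5 :: [1, 5, 1], [], 10, false⟩) (lall (memL L) [1, 5, 1]) = true := by decide +kernel

theorem rot5_3 : T.rot 5 [3, 5, 1, 3] (sel (ones 2835) ip5 3) = true := by decide +kernel

theorem rot5_3r : band (Rule.ok (2 * 6) EX RL ⟨5 :: [3, 5, 1, 3], [0, 4], 6, true⟩) (lall (memL L) [3, 5, 1, 3]) = true := by decide +kernel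

theorem rot5_4 : T.rot 5 [1, 3, 5, 3] (sel (ones 2835) ip5 4) = true := by decide +kernel

theorem rot5_4r : band (Rule.ok (2 * 6) EX RL ⟨5 :: [1, 3, 5, 3], [8], 6, true⟩) (lall (memL L) [1, 3, 5, 3]) = true := by decide +kernel

theorem rot5_5 : T.rot 5 [3, 5, 3, 1] (sel (ones 2835) ip5 5) = true := by decide +kernel

theorem rot5_5r : band (Rule.ok (2 * 6) EX RL ⟨5 :: [3, 5, 3, 1], [], 6, false⟩) (lall (memL L) [3, 5, 3, 1]) = true := by decide +kernel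

theorem rot5_6 : T.rot 5 [3, 1, 5, 3] (sel (ones 2835) ip5 6) = true := by decide +kernel

theorem rot5_6r : band (Rule.ok (2 * 6) EX RL ⟨5 :: [3, 1, 5, 3], [8, 4], 6, false⟩) (lall (memL L) [3, 1, 5, 3]) = true := by decide +kernel

theorem rot5_7 : T.rot 5 [2, 5, 2, 5, 2] (sel (ones 2835) ip5 7) = true := by decide +kernel

theorem rot5_7r : band (Rule.ok (2 * 6) EX RL ⟨5 :: [2, 5, 2, 5, 2], [], 9, false⟩) (lall (memL L) [2, 5, 2, 5, 2]) = true := by decide +kernel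

theorem rot5_8 : T.rot 5 [6, 5, 6, 5, 6] (sel (ones 2835) ip5 8) = true := by decide +kernel

theorem rot5_8r : band (Rule.ok (2 * 6) EX RL ⟨5 :: [6, 5, 6, 5, 6], [], 13, true⟩) (lall (memL L) [6, 5, 6, 5, 6]) = true := by decide +kernel

theorem rot5_9 : T.rot 5 [6, 1, 6, 1, 6, 3, 5, 3] (sel (ones 2835) ip5 9) = true := by decide +kernel

theorem rot5_9r : band (Rule.ok (2 * 6) EX RL ⟨5 :: [6, 1, 6, 1, 6, 3, 5, 3], [4], 16, true⟩) (lall (memL L) [6, 1, 6, 1, 6, 3, 5, 3]) = true := by decide +kernel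

theorem rot5_10 : T.rot 5 [3, 5, 6, 1, 6, 1, 6, 3] (sel (ones 2835) ip5 10) = true := by decide +kernel

theorem rot5_10r : band (Rule.ok (2 * 6) EX RL ⟨5 :: [3, 5, 6, 1, 6, 1, 6, 3], [8], 16, true⟩) (lall (memL L) [3, 5, 6, 1, 6, 1, 6, 3]) = true := by decide +kernel

theorem rot5_11 : T.rot 5 [3, 6, 1, 6, 1, 6, 5, 3] (sel (ones 2835) ip5 11) = true := by decide +kernel

theorem rot5_11r : band (Rule.ok (2 * 6) EX RL ⟨5 :: [3, 6, 1, 6, 1, 6, 5, 3], [], 16, false⟩) (lall (memL L) [3, 6, 1, 6, 1, 6, 5, 3]) = true := by decide +kernel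

theorem rot5_12 : T.rot 5 [3, 5, 3, 6, 1, 6, 1, 6] (sel (ones 2835) ip5 12) = true := by decide +kernel

theorem rot5_12r : band (Rule.ok (2 * 6) EX RL ⟨5 :: [3, 5, 3, 6, 1, 6, 1, 6], [4, 8], 16, false⟩) (lall (memL L) [3, 5, 3, 6, 1, 6, 1, 6]) = true := by decide +kernel

theorem rot5_13 : T.rot 5 [3, 5, 2, 3, 4, 3, 2, 3, 4] (sel (ones 2835) ip5 13) = true := by decide +kernel

theorem rot5_13r : band (Rule.ok (2 * 6) EX RL ⟨5 :: [3, 5, 2, 3, 4, 3, 2, 3, 4], [8, 4, 8], 0, true⟩) (lall (memL L) [3, 5, 2, 3, 4, 3, 2, 3, 4]) = true := by decide +kernel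

theorem rot5_14 : T.rot 5 [2, 3, 4, 3, 2, 3, 4, 5, 3] (sel (ones 2835) ip5 14) = true := by decide +kernel

theorem rot5_14r : band (Rule.ok (2 * 6) EX RL ⟨5 :: [2, 3, 4, 3, 2, 3, 4, 5, 3], [8], 0, true⟩) (lall (memL L) [2, 3, 4, 3, 2, 3, 4, 5, 3]) = true := by decide +kernel

theorem rot5_15 : T.rot 5 [3, 5, 4, 3, 2, 3, 4, 3, 2] (sel (ones 2835) ip5 15) = true := by decide +kernel

theorem rot5_15r : band (Rule.ok (2 * 6) EX RL ⟨5 :: [3, 5, 4, 3, 2, 3, 4, 3, 2], [], 0, false⟩) (lall (memL L) [3, 5, 4, 3, 2, 3, 4, 3, 2]) = true := by decide +kernel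

theorem rot5_16 : T.rot 5 [4, 3, 2, 3, 4, 3, 2, 5, 3] (sel (ones 2835) ip5 16) = true := by decide +kernel

theorem rot5_16r : band (Rule.ok (2 * 6) EX RL ⟨5 :: [4, 3, 2, 3, 4, 3, 2, 5, 3], [8, 4], 0, false⟩) (lall (memL L) [4, 3, 2, 3, 4, 3, 2, 5, 3]) = true := by decide +kernel

theorem rot5_17 : T.rot 5 [3, 5, 4, 2, 3, 4, 3, 2, 4] (sel (ones 2835) ip5 17) = true := by decide +kernel

theorem rot5_17r : band (Rule.ok (2 * 6) EX RL ⟨5 :: [3, 5, 4, 2, 3, 4, 3, 2, 4], [6], 2, false⟩) (lall (memL L) [3, 5, 4, 2, 3, 4, 3, 2, 4]) = true := by decide +kernel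

theorem rot5_18 : T.rot 5 [4, 2, 3, 4, 3, 2, 4, 5, 3] (sel (ones 2835) ip5 18) = true := by decide +kernel

theorem rot5_18r : band (Rule.ok (2 * 6) EX RL ⟨5 :: [4, 2, 3, 4, 3, 2, 4, 5, 3], [6, 8], 2, true⟩) (lall (memL L) [4, 2, 3, 4, 3, 2, 4, 5, 3]) = true := by decide +kernel

theorem rot5_19 : T.rot 5 [3, 4, 2, 5, 2, 4, 5, 2, 3] (sel (ones 2835) ip5 19) = true := by decide +kernel

theorem rot5_19r : band (Rule.ok (2 * 6) EX RL ⟨5 :: [3, 4, 2, 5, 2, 4, 5, 2, 3], [2, 4], 3, true⟩) (lall (memL L) [3, 4, 2, 5, 2, 4, 5, 2, 3]) = true := by decide +kernel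

theorem rot5_20 : T.rot 5 [2, 4, 5, 2, 3, 5, 3, 4, 2] (sel (ones 2835) ip5 20) = true := by decide +kernel

theorem rot5_20r : band (Rule.ok (2 * 6) EX RL ⟨5 :: [2, 4, 5, 2, 3, 5, 3, 4, 2], [8, 6, 2, 8], 3, true⟩) (lall (memL L) [2, 4, 5, 2, 3, 5, 3, 4, 2]) = true := by decide +kernel

theorem rot5_21 : T.rot 5 [2, 3, 5, 3, 4, 2, 5, 2, 4] (sel (ones 2835) ip5 21) = true := by decide +kernel

theorem rot5_21r : band (Rule.ok (2 * 6) EX RL ⟨5 :: [2, 3, 5, 3, 4, 2, 5, 2, 4], [8], 3, true⟩) (lall (memL L) [2, 3, 5, 3, 4, 2, 5, 2, 4]) = true := by decide +kernel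

theorem rot5_22 : T.rot 5 [4, 2, 5, 2, 4, 3, 5, 3, 2] (sel (ones 2835) ip5 22) = true := by decide +kernel

theorem rot5_22r : band (Rule.ok (2 * 6) EX RL ⟨5 :: [4, 2, 5, 2, 4, 3, 5, 3, 2], [], 3, false⟩) (lall (memL L) [4, 2, 5, 2, 4, 3, 5, 3, 2]) = true := by decide +kernel

theorem rot5_23 : T.rot 5 [2, 4, 3, 5, 3, 2, 5, 4, 2] (sel (ones 2835) ip5 23) = true := by decide +kernel

theorem rot5_23r : band (Rule.ok (2 * 6) EX RL ⟨5 :: [2, 4, 3, 5, 3, 2, 5, 4, 2], [8, 6, 2], 3, false⟩) (lall (memL L) [2, 4, 3, 5, 3, 2, 5, 4, 2]) = true := by decide +kernel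

theorem rot5_24 : T.rot 5 [3, 2, 5, 4, 2, 5, 2, 4, 3] (sel (ones 2835) ip5 24) = true := by decide +kernel

theorem rot5_24r : band (Rule.ok (2 * 6) EX RL ⟨5 :: [3, 2, 5, 4, 2, 5, 2, 4, 3], [2, 4, 8], 3, false⟩) (lall (memL L) [3, 2, 5, 4, 2, 5, 2, 4, 3]) = true := by decide +kernel

theorem rot5_25 : T.rot 5 [2, 4, 5, 4, 2, 5, 4, 2, 4] (sel (ones 2835) ip5 25) = true := by decide +kernel

theorem rot5_25r : band (Rule.ok (2 * 6) EX RL ⟨5 :: [2, 4, 5, 4, 2, 5, 4, 2, 4], [6], 4, false⟩) (lall (memL L) [2, 4, 5, 4, 2, 5, 4, 2, 4]) = true := by decide +kernel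

theorem rot5_26 : T.rot 5 [4, 2, 5, 4, 2, 4, 5, 2, 4] (sel (ones 2835) ip5 26) = true := by decide +kernel

theorem rot5_26r : band (Rule.ok (2 * 6) EX RL ⟨5 :: [4, 2, 5, 4, 2, 4, 5, 2, 4], [6, 8, 2, 6], 4, false⟩) (lall (memL L) [4, 2, 5, 4, 2, 4, 5, 2, 4]) = true := by decide +kernel

theorem rot5_27 : T.rot 5 [4, 2, 4, 5, 2, 4, 5, 4, 2] (sel (ones 2835) ip5 27) = true := by decide +kernel

theorem rot5_27r : band (Rule.ok (2 * 6) EX RL ⟨5 :: [4, 2, 4, 5, 2, 4, 5, 4, 2], [6, 8], 4, true⟩) (lall (memL L) [4, 2, 4, 5, 2, 4, 5, 4, 2]) = true := by decide +kernel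

theorem rot5_28 : T.rot 5 [2, 4, 3, 2, 5, 4, 5, 3, 4, 5, 2, 3, 2] (sel (ones 2835) ip5 28) = true := by decide +kernel

theorem rot5_28r : band (Rule.ok (2 * 6) EX RL ⟨5 :: [2, 4, 3, 2, 5, 4, 5, 3, 4, 5, 2, 3, 2], [2, 4, 2], 5, true⟩) (lall (memL L) [2, 4, 3, 2, 5, 4, 5, 3, 4, 5, 2, 3, 2]) = true := by decide +kernel

theorem rot5_29 : T.rot 5 [4, 5, 3, 4, 5, 2, 3, 2, 5, 2, 4, 3, 2] (sel (ones 2835) ip5 29) = true := by decide +kernel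

theorem rot5_29r : band (Rule.ok (2 * 6) EX RL ⟨5 :: [4, 5, 3, 4, 5, 2, 3, 2, 5, 2, 4, 3, 2], [8, 6, 4, 8, 6, 8], 5, true⟩) (lall (memL L) [4, 5, 3, 4, 5, 2, 3, 2, 5, 2, 4, 3, 2]) = true := by decide +kernel

theorem rot5_30 : T.rot 5 [3, 4, 5, 2, 3, 2, 5, 2, 4, 3, 2, 5, 4] (sel (ones 2835) ip5 30) = true := by decide +kernel

theorem rot5_30r : band (Rule.ok (2 * 6) EX RL ⟨5 :: [3, 4, 5, 2, 3, 2, 5, 2, 4, 3, 2, 5, 4], [8, 6, 4, 8], 5, true⟩) (lall (memL L) [3, 4, 5, 2, 3, 2, 5, 2, 4, 3, 2, 5, 4]) = true := by decide +kernel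

theorem rot5_31 : T.rot 5 [2, 3, 2, 5, 2, 4, 3, 2, 5, 4, 5, 3, 4] (sel (ones 2835) ip5 31) = true := by decide +kernel

theorem rot5_31r : band (Rule.ok (2 * 6) EX RL ⟨5 :: [2, 3, 2, 5, 2, 4, 3, 2, 5, 4, 5, 3, 4], [8], 5, true⟩) (lall (memL L) [2, 3, 2, 5, 2, 4, 3, 2, 5, 4, 5, 3, 4]) = true := by decide +kernel

theorem rot5_32 : T.rot 5 [4, 3, 5, 4, 5, 2, 3, 4, 2, 5, 2, 3, 2] (sel (ones 2835) ip5 32) = true := by decide +kernel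

theorem rot5_32r : band (Rule.ok (2 * 6) EX RL ⟨5 :: [4, 3, 5, 4, 5, 2, 3, 4, 2, 5, 2, 3, 2], [], 5, false⟩) (lall (memL L) [4, 3, 5, 4, 5, 2, 3, 4, 2, 5, 2, 3, 2]) = true := by decide +kernel

theorem rot5_33 : T.rot 5 [4, 5, 2, 3, 4, 2, 5, 2, 3, 2, 5, 4, 3] (sel (ones 2835) ip5 33) = true := by decide +kernel

theorem rot5_33r : band (Rule.ok (2 * 6) EX RL ⟨5 :: [4, 5, 2, 3, 4, 2, 5, 2, 3, 2, 5, 4, 3], [8, 6, 4], 5, false⟩) (lall (memL L) [4, 5, 2, 3, 4, 2, 5, 2, 3, 2, 5, 4, 3]) = true := by decide +kernel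

theorem rot5_34 : T.rot 5 [2, 3, 4, 2, 5, 2, 3, 2, 5, 4, 3, 5, 4] (sel (ones 2835) ip5 34) = true := by decide +kernel

theorem rot5_34r : band (Rule.ok (2 * 6) EX RL ⟨5 :: [2, 3, 4, 2, 5, 2, 3, 2, 5, 4, 3, 5, 4], [8, 6, 4, 8, 6], 5, false⟩) (lall (memL L) [2, 3, 4, 2, 5, 2, 3, 2, 5, 4, 3, 5, 4]) = true := by decide +kernel

theorem rot5_35 : T.rot 5 [2, 3, 2, 5, 4, 3, 5, 4, 5, 2, 3, 4, 2] (sel (ones 2835) ip5 35) = true := by decide +kernel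

theorem rot5_35r : band (Rule.ok (2 * 6) EX RL ⟨5 :: [2, 3, 2, 5, 4, 3, 5, 4, 5, 2, 3, 4, 2], [2, 4, 2, 8], 5, false⟩) (lall (memL L) [2, 3, 2, 5, 4, 3, 5, 4, 5, 2, 3, 4, 2]) = true := by decide +kernel

theorem rot5_36 : T.rot 5 [2, 6, 4, 2, 6, 1, 6, 4, 2, 6, 4, 5, 1] (sel (ones 2835) ip5 36) = true := by decide +kernel

theorem rot5_36r : band (Rule.ok (2 * 6) EX RL ⟨5 :: [2, 6, 4, 2, 6, 1, 6, 4, 2, 6, 4, 5, 1], [], 18, true⟩) (lall (memL L) [2, 6, 4, 2, 6, 1, 6, 4, 2, 6, 4, 5, 1]) = true := by decide +kernel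

theorem rot5_37 : T.rot 5 [1, 5, 2, 6, 4, 2, 6, 1, 6, 4, 2, 6, 4] (sel (ones 2835) ip5 37) = true := by decide +kernel

theorem rot5_37r : band (Rule.ok (2 * 6) EX RL ⟨5 :: [1, 5, 2, 6, 4, 2, 6, 1, 6, 4, 2, 6, 4], [0, 8], 18, true⟩) (lall (memL L) [1, 5, 2, 6, 4, 2, 6, 1, 6, 4, 2, 6, 4]) = true := by decide +kernel

theorem rot5_38 : T.rot 5 [4, 6, 2, 4, 6, 1, 6, 2, 4, 6, 2, 5, 1] (sel (ones 2835) ip5 38) = true := by decide +kernel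

theorem rot5_38r : band (Rule.ok (2 * 6) EX RL ⟨5 :: [4, 6, 2, 4, 6, 1, 6, 2, 4, 6, 2, 5, 1], [0], 18, false⟩) (lall (memL L) [4, 6, 2, 4, 6, 1, 6, 2, 4, 6, 2, 5, 1]) = true := by decide +kernel

theorem rot5_39 : T.rot 5 [1, 5, 4, 6, 2, 4, 6, 1, 6, 2, 4, 6, 2] (sel (ones 2835) ip5 39) = true := by decide +kernel

theorem rot5_39r : band (Rule.ok (2 * 6) EX RL ⟨5 :: [1, 5, 4, 6, 2, 4, 6, 1, 6, 2, 4, 6, 2], [8], 18, false⟩) (lall (memL L) [1, 5, 4, 6, 2, 4, 6, 1, 6, 2, 4, 6, 2]) = true := by decide +kernel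

theorem rot5_40 : T.rot 5 [2, 3, 2, 6, 1, 3, 4, 6, 3, 4, 1, 6, 2, 4] (sel (ones 2835) ip5 40) = true := by decide +kernel

theorem rot5_40r : band (Rule.ok (2 * 6) EX RL ⟨5 :: [2, 3, 2, 6, 1, 3, 4, 6, 3, 4, 1, 6, 2, 4], [2, 4, 2, 8], 19, true⟩) (lall (memL L) [2, 3, 2, 6, 1, 3, 4, 6, 3, 4, 1, 6, 2, 4]) = true := by decide +kernel

theorem rot5_41 : T.rot 5 [4, 2, 6, 1, 4, 3, 6, 4, 3, 1, 6, 2, 3, 2] (sel (ones 2835) ip5 41) = true := by decide +kernel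

theorem rot5_41r : band (Rule.ok (2 * 6) EX RL ⟨5 :: [4, 2, 6, 1, 4, 3, 6, 4, 3, 1, 6, 2, 3, 2], [2, 4, 2], 19, false⟩) (lall (memL L) [4, 2, 6, 1, 4, 3, 6, 4, 3, 1, 6, 2, 3, 2]) = true := by decide +kernel

theorem rot5_42 : T.rot 5 [6, 2, 5, 1, 6, 4, 3, 5, 2, 4, 3, 6, 1, 2] (sel (ones 2835) ip5 42) = true := by decide +kernel

theorem rot5_42r : band (Rule.ok (2 * 6) EX RL ⟨5 :: [6, 2, 5, 1, 6, 4, 3, 5, 2, 4, 3, 6, 1, 2], [10, 0, 2], 20, true⟩) (lall (memL L) [6, 2, 5, 1, 6, 4, 3, 5, 2, 4, 3, 6, 1, 2]) = true := by decide +kernel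

theorem rot5_43 : T.rot 5 [1, 6, 4, 3, 5, 2, 4, 3, 6, 1, 2, 5, 6, 2] (sel (ones 2835) ip5 43) = true := by decide +kernel

theorem rot5_43r : band (Rule.ok (2 * 6) EX RL ⟨5 :: [1, 6, 4, 3, 5, 2, 4, 3, 6, 1, 2, 5, 6, 2], [10, 0, 2, 8, 10, 2], 20, true⟩) (lall (memL L) [1, 6, 4, 3, 5, 2, 4, 3, 6, 1, 2, 5, 6, 2]) = true := by decide +kernel

theorem rot5_44 : T.rot 5 [2, 4, 3, 6, 1, 2, 5, 6, 2, 5, 1, 6, 4, 3] (sel (ones 2835) ip5 44) = true := by decide +kernel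

theorem rot5_44r : band (Rule.ok (2 * 6) EX RL ⟨5 :: [2, 4, 3, 6, 1, 2, 5, 6, 2, 5, 1, 6, 4, 3], [4, 6, 2, 8], 20, true⟩) (lall (memL L) [2, 4, 3, 6, 1, 2, 5, 6, 2, 5, 1, 6, 4, 3]) = true := by decide +kernel

theorem rot5_45 : T.rot 5 [3, 4, 6, 1, 5, 2, 6, 5, 2, 1, 6, 3, 4, 2] (sel (ones 2835) ip5 45) = true := by decide +kernel

theorem rot5_45r : band (Rule.ok (2 * 6) EX RL ⟨5 :: [3, 4, 6, 1, 5, 2, 6, 5, 2, 1, 6, 3, 4, 2], [4, 6, 2], 20, false⟩) (lall (memL L) [3, 4, 6, 1, 5, 2, 6, 5, 2, 1, 6, 3, 4, 2]) = true := by decide +kernel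

theorem rot5_46 : T.rot 5 [2, 6, 5, 2, 1, 6, 3, 4, 2, 5, 3, 4, 6, 1] (sel (ones 2835) ip5 46) = true := by decide +kernel

theorem rot5_46r : band (Rule.ok (2 * 6) EX RL ⟨5 :: [2, 6, 5, 2, 1, 6, 3, 4, 2, 5, 3, 4, 6, 1], [10, 0, 2, 8, 10, 2, 8], 20, false⟩) (lall (memL L) [2, 6, 5, 2, 1, 6, 3, 4, 2, 5, 3, 4, 6, 1]) = true := by decide +kernel

theorem rot5_47 : T.rot 5 [2, 1, 6, 3, 4, 2, 5, 3, 4, 6, 1, 5, 2, 6] (sel (ones 2835) ip5 47) = true := by decide +kernel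

theorem rot5_47r : band (Rule.ok (2 * 6) EX RL ⟨5 :: [2, 1, 6, 3, 4, 2, 5, 3, 4, 6, 1, 5, 2, 6], [10, 0, 2, 8], 20, false⟩) (lall (memL L) [2, 1, 6, 3, 4, 2, 5, 3, 4, 6, 1, 5, 2, 6]) = true := by decide +kernel

theorem cov5 : T.cover 5 [(sel (ones 2835) ip5 1), (sel (ones 2835) ip5 2), (sel (ones 2835) ip5 3), (sel (ones 2835) ip5 4), (sel (ones 2835) ip5 5), (sel (ones 2835) ip5 6), (sel (ones 2835) ip5 7), (sel (ones 2835) ip5 8), (sel (ones 2835) ip5 9), (sel (ones 2835) ip5 10), (sel (ones 2835) ip5 11), (sel (ones 2835) ip5 12), (sel (ones 2835) ip5 13), (sel (ones 2835) ip5 14), (sel (ones 2835) ip5 15), (sel (ones 2835) ip5 16), (sel (ones 2835) ip5 17), (sel (ones 2835) ip5 18), (sel (ones 2835) ip5 19), (sel (ones 2835) ip5 20), (sel (ones 2835) ip5 21), (sel (ones 2835) ip5 22), (sel (ones 2835) ip5 23), (sel (ones 2835) ip5 24), (sel (ones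 2835) ip5 25), (sel (ones 2835) ip5 26), (sel (ones 2835) ip5 27), (sel (ones 2835) ip5 28), (sel (ones 2835) ip5 29), (sel (ones 2835) ip5 30), (sel (ones 2835) ip5 31), (sel (ones 2835) ip5 32), (sel (ones 2835) ip5 33), (sel (ones 2835) ip5 34), (sel (ones 2835) ip5 35), (sel (ones 2835) ip5 36), (sel (ones 2835) ip5 37), (sel (ones 2835) ip5 38), (sel (ones 2835) ip5 39), (sel (ones 2835) ip5 40), (sel (ones 2835) ip5 41), (sel (ones 2835) ip5 42), (sel (ones 2835) ip5 43), (sel (ones 2835) ip5 44), (sel (ones 2835) ip5 45), (sel (ones 2835) ip5 46), (sel (ones 2835) ip5 47), 1] = true := by decide +kernel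

theorem tl5 : T.treeLt 12 5 = true := by decide +kernel

theorem rot6_1 : T.rot 6 [6] (sel (ones 2835) ip6 1) = true := by decide +kernel

theorem rot6_1r : band (Rule.ok (2 * 6) EX RL ⟨6 :: [6], [], 21, false⟩) (lall (memL L) [6]) = true := by decide +kernel

theorem rot6_2 : T.rot 6 [2, 6, 2, 6, 2] (sel (ones 2835) ip6 2) = true := by decide +kernel

theorem rot6_2r : band (Rule.ok (2 * 6) EX RL ⟨6 :: [2, 6, 2, 6, 2], [], 12, false⟩) (lall (memL L) [2, 6, 2, 6, 2]) = true := by decide +kernel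

theorem rot6_3 : T.rot 6 [5, 6, 5, 6, 5] (sel (ones 2835) ip6 3) = true := by decide +kernel

theorem rot6_3r : band (Rule.ok (2 * 6) EX RL ⟨6 :: [5, 6, 5, 6, 5], [], 13, false⟩) (lall (memL L) [5, 6, 5, 6, 5]) = true := by decide +kernel

theorem rot6_4 : T.rot 6 [4, 6, 4, 6, 4] (sel (ones 2835) ip6 4) = true := by decide +kernel

theorem rot6_4r : band (Rule.ok (2 * 6) EX RL ⟨6 :: [4, 6, 4, 6, 4], [], 14, false⟩) (lall (memL L) [4, 6, 4, 6, 4]) = true := by decide +kernel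

theorem rot6_5 : T.rot 6 [3, 6, 3, 6, 3] (sel (ones 2835) ip6 5) = true := by decide +kernel

theorem rot6_5r : band (Rule.ok (2 * 6) EX RL ⟨6 :: [3, 6, 3, 6, 3], [], 15, false⟩) (lall (memL L) [3, 6, 3, 6, 3]) = true := by decide +kernel

theorem rot6_6 : T.rot 6 [1, 6, 1, 6, 3, 5, 3, 5] (sel (ones 2835) ip6 6) = true := by decide +kernel

theorem rot6_6r : band (Rule.ok (2 * 6) EX RL ⟨6 :: [1, 6, 1, 6, 3, 5, 3, 5], [4, 8], 16, true⟩) (lall (memL L) [1, 6, 1, 6, 3, 5, 3, 5]) = true := by decide +kernel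

theorem rot6_7 : T.rot 6 [1, 6, 3, 5, 3, 5, 6, 1] (sel (ones 2835) ip6 7) = true := by decide +kernel

theorem rot6_7r : band (Rule.ok (2 * 6) EX RL ⟨6 :: [1, 6, 3, 5, 3, 5, 6, 1], [4, 8, 10, 0], 16, true⟩) (lall (memL L) [1, 6, 3, 5, 3, 5, 6, 1]) = true := by decide +kernel

theorem rot6_8 : T.rot 6 [3, 5, 3, 5, 6, 1, 6, 1] (sel (ones 2835) ip6 8) = true := by decide +kernel

theorem rot6_8r : band (Rule.ok (2 * 6) EX RL ⟨6 :: [3, 5, 3, 5, 6, 1, 6, 1], [8, 4, 10], 16, true⟩) (lall (memL L) [3, 5, 3, 5, 6, 1, 6, 1]) = true := by decide +kernel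

theorem rot6_9 : T.rot 6 [1, 6, 1, 6, 5, 3, 5, 3] (sel (ones 2835) ip6 9) = true := by decide +kernel

theorem rot6_9r : band (Rule.ok (2 * 6) EX RL ⟨6 :: [1, 6, 1, 6, 5, 3, 5, 3], [8, 4], 16, false⟩) (lall (memL L) [1, 6, 1, 6, 5, 3, 5, 3]) = true := by decide +kernel

theorem rot6_10 : T.rot 6 [1, 6, 5, 3, 5, 3, 6, 1] (sel (ones 2835) ip6 10) = true := by decide +kernel

theorem rot6_10r : band (Rule.ok (2 * 6) EX RL ⟨6 :: [1, 6, 5, 3, 5, 3, 6, 1], [8, 4, 10, 0], 16, false⟩) (lall (memL L) [1, 6, 5, 3, 5, 3, 6, 1]) = true := by decide +kernel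

theorem rot6_11 : T.rot 6 [5, 3, 5, 3, 6, 1, 6, 1] (sel (ones 2835) ip6 11) = true := by decide +kernel

theorem rot6_11r : band (Rule.ok (2 * 6) EX RL ⟨6 :: [5, 3, 5, 3, 6, 1, 6, 1], [4, 8, 10], 16, false⟩) (lall (memL L) [5, 3, 5, 3, 6, 1, 6, 1]) = true := by decide +kernel

theorem rot6_12 : T.rot 6 [4, 2, 6, 1, 6, 4, 2, 6, 4, 5, 1, 5, 2] (sel (ones 2835) ip6 12) = true := by decide +kernel

theorem rot6_12r : band (Rule.ok (2 * 6) EX RL ⟨6 :: [4, 2, 6, 1, 6, 4, 2, 6, 4, 5, 1, 5, 2], [8, 2], 18, true⟩) (lall (memL L) [4, 2, 6, 1, 6, 4, 2, 6, 4, 5, 1, 5, 2]) = true := by decide +kernel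

theorem rot6_13 : T.rot 6 [1, 6, 4, 2, 6, 4, 5, 1, 5, 2, 6, 4, 2] (sel (ones 2835) ip6 13) = true := by decide +kernel

theorem rot6_13r : band (Rule.ok (2 * 6) EX RL ⟨6 :: [1, 6, 4, 2, 6, 4, 5, 1, 5, 2, 6, 4, 2], [8, 2, 10, 6, 2], 18, true⟩) (lall (memL L) [1, 6, 4, 2, 6, 4, 5, 1, 5, 2, 6, 4, 2]) = true := by decide +kernel

theorem rot6_14 : T.rot 6 [4, 2, 6, 4, 5, 1, 5, 2, 6, 4, 2, 6, 1] (sel (ones 2835) ip6 14) = true := by decide +kernel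

theorem rot6_14r : band (Rule.ok (2 * 6) EX RL ⟨6 :: [4, 2, 6, 4, 5, 1, 5, 2, 6, 4, 2, 6, 1], [0, 8, 6, 10, 2, 6, 10], 18, true⟩) (lall (memL L) [4, 2, 6, 4, 5, 1, 5, 2, 6, 4, 2, 6, 1]) = true := by decide +kernel

theorem rot6_15 : T.rot 6 [4, 5, 1, 5, 2, 6, 4, 2, 6, 1, 6, 4, 2] (sel (ones 2835) ip6 15) = true := by decide +kernel

theorem rot6_15r : band (Rule.ok (2 * 6) EX RL ⟨6 :: [4, 5, 1, 5, 2, 6, 4, 2, 6, 1, 6, 4, 2], [0, 8, 6, 10], 18, true⟩) (lall (memL L) [4, 5, 1, 5, 2, 6, 4, 2, 6, 1, 6, 4, 2]) = true := by decide +kernel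

theorem rot6_16 : T.rot 6 [2, 4, 6, 1, 6, 2, 4, 6, 2, 5, 1, 5, 4] (sel (ones 2835) ip6 16) = true := by decide +kernel

theorem rot6_16r : band (Rule.ok (2 * 6) EX RL ⟨6 :: [2, 4, 6, 1, 6, 2, 4, 6, 2, 5, 1, 5, 4], [0, 8, 6], 18, false⟩) (lall (memL L) [2, 4, 6, 1, 6, 2, 4, 6, 2, 5, 1, 5, 4]) = true := by decide +kernel

theorem rot6_17 : T.rot 6 [1, 6, 2, 4, 6, 2, 5, 1, 5, 4, 6, 2, 4] (sel (ones 2835) ip6 17) = true := by decide +kernel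

theorem rot6_17r : band (Rule.ok (2 * 6) EX RL ⟨6 :: [1, 6, 2, 4, 6, 2, 5, 1, 5, 4, 6, 2, 4], [0, 8, 6, 10, 2, 6], 18, false⟩) (lall (memL L) [1, 6, 2, 4, 6, 2, 5, 1, 5, 4, 6, 2, 4]) = true := by decide +kernel

theorem rot6_18 : T.rot 6 [2, 4, 6, 2, 5, 1, 5, 4, 6, 2, 4, 6, 1] (sel (ones 2835) ip6 18) = true := by decide +kernel

theorem rot6_18r : band (Rule.ok (2 * 6) EX RL ⟨6 :: [2, 4, 6, 2, 5, 1, 5, 4, 6, 2, 4, 6, 1], [8, 2, 10, 6, 2, 10], 18, false⟩) (lall (memL L) [2, 4, 6, 2, 5, 1, 5, 4, 6, 2, 4, 6, 1]) = true := by decide +kernel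

theorem rot6_19 : T.rot 6 [2, 5, 1, 5, 4, 6, 2, 4, 6, 1, 6, 2, 4] (sel (ones 2835) ip6 19) = true := by decide +kernel

theorem rot6_19r : band (Rule.ok (2 * 6) EX RL ⟨6 :: [2, 5, 1, 5, 4, 6, 2, 4, 6, 1, 6, 2, 4], [8, 2, 10], 18, false⟩) (lall (memL L) [2, 5, 1, 5, 4, 6, 2, 4, 6, 1, 6, 2, 4]) = true := by decide +kernel

theorem rot6_20 : T.rot 6 [1, 3, 4, 6, 3, 4, 1, 6, 2, 4, 5, 2, 3, 2] (sel (ones 2835) ip6 20) = true := by decide +kernel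

theorem rot6_20r : band (Rule.ok (2 * 6) EX RL ⟨6 :: [1, 3, 4, 6, 3, 4, 1, 6, 2, 4, 5, 2, 3, 2], [], 19, true⟩) (lall (memL L) [1, 3, 4, 6, 3, 4, 1, 6, 2, 4, 5, 2, 3, 2]) = true := by decide +kernel

theorem rot6_21 : T.rot 6 [3, 4, 1, 6, 2, 4, 5, 2, 3, 2, 6, 1, 3, 4] (sel (ones 2835) ip6 21) = true := by decide +kernel

theorem rot6_21r : band (Rule.ok (2 * 6) EX RL ⟨6 :: [3, 4, 1, 6, 2, 4, 5, 2, 3, 2, 6, 1, 3, 4], [10, 0, 4, 6], 19, true⟩) (lall (memL L) [3, 4, 1, 6, 2, 4, 5, 2, 3, 2, 6, 1, 3, 4]) = true := by decide +kernel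

theorem rot6_22 : T.rot 6 [2, 4, 5, 2, 3, 2, 6, 1, 3, 4, 6, 3, 4, 1] (sel (ones 2835) ip6 22) = true := by decide +kernel

theorem rot6_22r : band (Rule.ok (2 * 6) EX RL ⟨6 :: [2, 4, 5, 2, 3, 2, 6, 1, 3, 4, 6, 3, 4, 1], [2, 4, 2, 8, 6, 2, 10], 19, true⟩) (lall (memL L) [2, 4, 5, 2, 3, 2, 6, 1, 3, 4, 6, 3, 4, 1]) = true := by decide +kernel

theorem rot6_23 : T.rot 6 [1, 4, 3, 6, 4, 3, 1, 6, 2, 3, 2, 5, 4, 2] (sel (ones 2835) ip6 23) = true := by decide +kernel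

theorem rot6_23r : band (Rule.ok (2 * 6) EX RL ⟨6 :: [1, 4, 3, 6, 4, 3, 1, 6, 2, 3, 2, 5, 4, 2], [2, 4, 2, 8, 6, 2], 19, false⟩) (lall (memL L) [1, 4, 3, 6, 4, 3, 1, 6, 2, 3, 2, 5, 4, 2]) = true := by decide +kernel

theorem rot6_24 : T.rot 6 [4, 3, 1, 6, 2, 3, 2, 5, 4, 2, 6, 1, 4, 3] (sel (ones 2835) ip6 24) = true := by decide +kernel

theorem rot6_24r : band (Rule.ok (2 * 6) EX RL ⟨6 :: [4, 3, 1, 6, 2, 3, 2, 5, 4, 2, 6, 1, 4, 3], [10, 0, 4, 6, 10], 19, false⟩) (lall (memL L) [4, 3, 1, 6, 2, 3, 2, 5, 4, 2, 6, 1, 4, 3]) = true := by decide +kernel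

theorem rot6_25 : T.rot 6 [2, 3, 2, 5, 4, 2, 6, 1, 4, 3, 6, 4, 3, 1] (sel (ones 2835) ip6 25) = true := by decide +kernel

theorem rot6_25r : band (Rule.ok (2 * 6) EX RL ⟨6 :: [2, 3, 2, 5, 4, 2, 6, 1, 4, 3, 6, 4, 3, 1], [10], 19, false⟩) (lall (memL L) [2, 3, 2, 5, 4, 2, 6, 1, 4, 3, 6, 4, 3, 1]) = true := by decide +kernel

theorem rot6_26 : T.rot 6 [1, 2, 5, 6, 2, 5, 1, 6, 4, 3, 5, 2, 4, 3] (sel (ones 2835) ip6 26) = true := by decide +kernel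

theorem rot6_26r : band (Rule.ok (2 * 6) EX RL ⟨6 :: [1, 2, 5, 6, 2, 5, 1, 6, 4, 3, 5, 2, 4, 3], [], 20, true⟩) (lall (memL L) [1, 2, 5, 6, 2, 5, 1, 6, 4, 3, 5, 2, 4, 3]) = true := by decide +kernel

theorem rot6_27 : T.rot 6 [2, 5, 1, 6, 4, 3, 5, 2, 4, 3, 6, 1, 2, 5] (sel (ones 2835) ip6 27) = true := by decide +kernel

theorem rot6_27r : band (Rule.ok (2 * 6) EX RL ⟨6 :: [2, 5, 1, 6, 4, 3, 5, 2, 4, 3, 6, 1, 2, 5], [10, 0, 2, 8], 20, true⟩) (lall (memL L) [2, 5, 1, 6, 4, 3, 5, 2, 4, 3, 6, 1, 2, 5]) = true := by decide +kernel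

theorem rot6_28 : T.rot 6 [4, 3, 5, 2, 4, 3, 6, 1, 2, 5, 6, 2, 5, 1] (sel (ones 2835) ip6 28) = true := by decide +kernel

theorem rot6_28r : band (Rule.ok (2 * 6) EX RL ⟨6 :: [4, 3, 5, 2, 4, 3, 6, 1, 2, 5, 6, 2, 5, 1], [4, 6, 2, 8, 4, 6, 10], 20, true⟩) (lall (memL L) [4, 3, 5, 2, 4, 3, 6, 1, 2, 5, 6, 2, 5, 1]) = true := by decide +kernel

theorem rot6_29 : T.rot 6 [1, 5, 2, 6, 5, 2, 1, 6, 3, 4, 2, 5, 3, 4] (sel (ones 2835) ip6 29) = true := by decide +kernel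

theorem rot6_29r : band (Rule.ok (2 * 6) EX RL ⟨6 :: [1, 5, 2, 6, 5, 2, 1, 6, 3, 4, 2, 5, 3, 4], [4, 6, 2, 8, 4, 6], 20, false⟩) (lall (memL L) [1, 5, 2, 6, 5, 2, 1, 6, 3, 4, 2, 5, 3, 4]) = true := by decide +kernel

theorem rot6_30 : T.rot 6 [5, 2, 1, 6, 3, 4, 2, 5, 3, 4, 6, 1, 5, 2] (sel (ones 2835) ip6 30) = true := by decide +kernel

theorem rot6_30r : band (Rule.ok (2 * 6) EX RL ⟨6 :: [5, 2, 1, 6, 3, 4, 2, 5, 3, 4, 6, 1, 5, 2], [10, 0, 2, 8, 10], 20, false⟩) (lall (memL L) [5, 2, 1, 6, 3, 4, 2, 5, 3, 4, 6, 1, 5, 2]) = true := by decide +kernel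

theorem rot6_31 : T.rot 6 [3, 4, 2, 5, 3, 4, 6, 1, 5, 2, 6, 5, 2, 1] (sel (ones 2835) ip6 31) = true := by decide +kernel

theorem rot6_31r : band (Rule.ok (2 * 6) EX RL ⟨6 :: [3, 4, 2, 5, 3, 4, 6, 1, 5, 2, 6, 5, 2, 1], [10], 20, false⟩) (lall (memL L) [3, 4, 2, 5, 3, 4, 6, 1, 5, 2, 6, 5, 2, 1]) = true := by decide +kernel

theorem cov6 : T.cover 6 [(sel (ones 2835) ip6 1), (sel (ones 2835) ip6 2), (sel (ones 2835) ip6 3), (sel (ones 2835) ip6 4), (sel (ones 2835) ip6 5), (sel (ones 2835) ip6 6), (sel (ones 2835) ip6 7), (sel (ones 2835) ip6 8), (sel (ones 2835) ip6 9), (sel (ones 2835) ip6 10), (sel (ones 2835) ip6 11), (sel (ones 2835) ip6 12), (sel (ones 2835) ip6 13), (sel (ones 2835) ip6 14), (sel (ones 2835) ip6 15), (sel (ones 2835) ip6 16), (sel (ones 2835) ip6 17), (sel (ones 2835) ip6 18), (sel (ones 2835) ip6 19), (sel (ones 2835) ip6 20),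 (sel (ones 2835) ip6 21), (sel (ones 2835) ip6 22), (sel (ones 2835) ip6 23), (sel (ones 2835) ip6 24), (sel (ones 2835) ip6 25), (sel (ones 2835) ip6 26), (sel (ones 2835) ip6 27), (sel (ones 2835) ip6 28), (sel (ones 2835) ip6 29), (sel (ones 2835) ip6 30), (sel (ones 2835) ip6 31)] = true := by decide +kernel

theorem tl6 : T.treeLt 12 6 = true := by decide +kernel

end Cfsg.Agent.Spor.U43a
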